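import Cfsg.Agent.Lib.Transfer.Frobenius
import Cfsg.Agent.Lib.PGroup.UniqueOrderP
import Cfsg.Agent.Lib.PGroup.Frattini
import Cfsg.Agent.Lib.Involution.Dihedral
import Cfsg.Agent.Lib.PCore.Basic
import Mathlib

/-!
# Groups whose noncyclic subgroups contain their centralisers
-/

set_option autoImplicit false
set_option linter.style.haveILetI false

namespace Cfsg.Agent.ScNoncyclic

open Subgroup

/-- Every noncyclic subgroup contains its centraliser. -/
def SC (G : Type*) [Group G] : Prop :=
  ∀ H : Subgroup G, ¬ IsCyclic H → centralizer (H : Set G) ≤ H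

variable {G : Type*} [Group G]

theorem SC.of_equiv {H : Type*} [Group H] (hS : SC G) (e : G ≃* H) : SC H := by
  intro K hK x hx
  have hK' : ¬ IsCyclic (K.map e.symm.toMonoidHom) := fun hc =>
    hK (haveI := hc; isCyclic_of_surjective
      (K.equivMapOfInjective e.symm.toMonoidHom e.symm.injective).symm
      (K.equivMapOfInjective e.symm.toMonoidHom e.symm.injective).symm.surjective)
  have hx' : e.symm x ∈ centralizer (K.map e.symm.toMonoidHom : Set G) := by
    rw [mem_centralizer_iff]
    rintro _ ⟨k, hk, rfl⟩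
    show e.symm k * e.symm x = e.symm x * e.symm k
    rw [← map_mul, ← map_mul, mem_centralizer_iff.1 hx k hk]
  obtain ⟨k, hk, hkx⟩ := hS _ hK' hx'
  rwa [← e.symm.injective hkx]

theorem SC.subgroup (hS : SC G) (U : Subgroup G) : SC U := by
  intro H hH x hx
  have hH' : ¬ IsCyclic (H.map U.subtype) := fun hc =>
    hH (haveI := hc; isCyclic_of_surjective
      (H.equivMapOfInjective U.subtype U.subtype_injective).symm
      (H.equivMapOfInjective U.subtype U.subtype_injective).symm.surjective)
  have hx' : (x : G) ∈ centralizer (H.map U.subtype : Set G) := by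
    rw [mem_centralizer_iff]
    rintro _ ⟨k, hk, rfl⟩
    exact congrArg Subtype.val (mem_centralizer_iff.1 hx k hk)
  obtain ⟨k, hk, hkx⟩ := hS _ hH' hx'
  rwa [← Subtype.ext hkx]

theorem card_ne_of_isCyclic {p : ℕ} {K : Subgroup G} [Finite K] (hK : IsCyclic K)
    (hp : ∀ k ∈ K, k ^ p = 1) : Nat.card K ∣ p := by
  rw [← IsCyclic.exponent_eq_card, Monoid.exponent_dvd_iff_forall_pow_eq_one]
  exact fun k => Subtype.ext (by simpa using hp k k.2)

/-- Two commuting elements of order `p` with trivial intersection. -/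
theorem eq_sup_of_commute [Finite G] (hS : SC G) {p : ℕ} [hp : Fact p.Prime] {a z x : G}
    (ha : orderOf a = p) (hz : orderOf z = p) (haz : Commute a z) (hne : a ∉ zpowers z)
    (hxa : Commute x a) (hxz : Commute x z) : x ∈ zpowers a ⊔ zpowers z ∧ x ^ p = 1 := by
  set K := zpowers a ⊔ zpowers z with hK
  have hc : zpowers a ≤ centralizer ({z} : Set G) :=
    zpowers_le.2 (mem_centralizer_singleton_iff.2 haz.eq)
  have hexp : ∀ k ∈ K, k ^ p = 1 := by
    intro k hk
    rw [hK, sup_eq_closure, zpowers_eq_closure, zpowers_eq_closure] at hk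
    induction hk using closure_induction with
    | mem y hy =>
      rcases hy with hy | hy
      · obtain ⟨i, rfl⟩ := mem_zpowers_iff.1 ((zpowers_eq_closure a) ▸ hy : y ∈ zpowers a)
        rw [← zpow_natCast, ← zpow_mul, mul_comm, zpow_mul, zpow_natCast, ← ha,
          pow_orderOf_eq_one, one_zpow]
      · obtain ⟨i, rfl⟩ := mem_zpowers_iff.1 ((zpowers_eq_closure z) ▸ hy : y ∈ zpowers z)
        rw [← zpow_natCast, ← zpow_mul, mul_comm, zpow_mul, zpow_natCast, ← hz,
          pow_orderOf_eq_one, one_zpow]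
    | one => exact one_pow p
    | mul y y' hy hy' ihy ihy' =>
      have hyy : Commute y y' := by
        have hle : zpowers a ⊔ zpowers z ≤ centralizer ({a} : Set G) := sup_le
          (zpowers_le.2 (mem_centralizer_singleton_iff.2 rfl))
          (zpowers_le.2 (mem_centralizer_singleton_iff.2 haz.eq.symm))
        have hle2 : zpowers a ⊔ zpowers z ≤ centralizer ({z} : Set G) := sup_le hc
          (zpowers_le.2 (mem_centralizer_singleton_iff.2 rfl))
        have hy0 : y ∈ zpowers a ⊔ zpowers z := by
          rw [sup_eq_closure, zpowers_eq_closure, zpowers_eq_closure]; exact hy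
        have hy0' : y' ∈ zpowers a ⊔ zpowers z := by
          rw [sup_eq_closure, zpowers_eq_closure, zpowers_eq_closure]; exact hy'
        have h3 : zpowers a ⊔ zpowers z ≤ centralizer ({y} : Set G) := sup_le
          (zpowers_le.2 (mem_centralizer_singleton_iff.2
            (mem_centralizer_singleton_iff.1 (hle hy0)).symm))
          (zpowers_le.2 (mem_centralizer_singleton_iff.2
            (mem_centralizer_singleton_iff.1 (hle2 hy0)).symm))
        exact (mem_centralizer_singleton_iff.1 (h3 hy0')).symm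
      rw [hyy.mul_pow, ihy, ihy', one_mul]
    | inv y hy ihy => rw [inv_pow, ihy, inv_one]
  have hnc : ¬ IsCyclic K := fun hcy => by
    have h1 : zpowers z ≤ K := le_sup_right
    have h2 : Nat.card K ∣ p := card_ne_of_isCyclic hcy hexp
    have h3 : zpowers z = K := by
      refine eq_of_le_of_card_ge h1 ?_
      rw [Nat.card_zpowers, hz]
      exact Nat.le_of_dvd hp.out.pos h2
    exact hne (h3 ▸ (mem_sup_left (mem_zpowers a) : a ∈ K))
  have hx : x ∈ centralizer (K : Set G) := by
    rw [mem_centralizer_iff]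
    have h3 : K ≤ centralizer ({x} : Set G) := sup_le
      (zpowers_le.2 (mem_centralizer_singleton_iff.2 hxa.eq.symm))
      (zpowers_le.2 (mem_centralizer_singleton_iff.2 hxz.eq.symm))
    exact fun k hk => mem_centralizer_singleton_iff.1 (h3 hk)
  exact ⟨hS K hnc hx, hexp x (hS K hnc hx)⟩

/-- An involution other than `t` commuting with `t` inverts no nontrivial odd element of `C(t)`. -/
theorem eq_one_of_inverted [Finite G] (hS : SC G) {t a x : G} (ht : orderOf t = 2)
    (ha : orderOf a = 2) (hat : Commute a t) (hne : a ≠ t) (hx : Odd (orderOf x))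
    (hxt : Commute x t) (hinv : a * x * a = x⁻¹) : x = 1 := by
  by_contra hx1
  have haa := Involution.sq_of_orderOf_two ha
  have hy : a * x * (a * x) = 1 := by rw [← mul_assoc, hinv, inv_mul_cancel]
  have hay : a * (a * x) = x := by rw [← mul_assoc, haa, one_mul]
  set H := closure ({a, a * x} : Set G)
  have hxH : x ∈ H := by
    have := H.mul_mem (Involution.left_mem_closure_pair a (a * x))
      (Involution.right_mem_closure_pair a (a * x))
    rwa [hay] at this
  have hxx : x⁻¹ ≠ x := fun e => by
    have h2 : orderOf x ∣ 2 := orderOf_dvd_of_pow_eq_one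
      (by rw [pow_two]; nth_rewrite 1 [← e]; exact inv_mul_cancel x)
    rcases (Nat.dvd_prime Nat.prime_two).1 h2 with h | h
    · exact hx1 (orderOf_eq_one_iff.1 h)
    · rw [h] at hx; exact absurd hx (by decide)
  have hax : ¬ Commute a x := fun e => hxx (by rw [← hinv, e.eq, mul_assoc, haa, mul_one])
  have hnc : ¬ IsCyclic H := fun hc => by
    letI := hc.commGroup
    exact hax (congrArg Subtype.val (mul_comm
      (⟨a, Involution.left_mem_closure_pair a (a * x)⟩ : H) ⟨x, hxH⟩) :)
  have htH : t ∈ H := hS H hnc (by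
    rw [mem_centralizer_iff]
    have h3 : H ≤ centralizer ({t} : Set G) := by
      rw [closure_le]
      rintro y (rfl | rfl)
      · exact mem_centralizer_singleton_iff.2 hat.eq
      · exact mem_centralizer_singleton_iff.2 (hat.mul_left hxt).eq
    exact fun k hk => mem_centralizer_singleton_iff.1 (h3 hk))
  obtain ⟨k, hk | hk⟩ := Involution.mem_closure_pair_cases haa hy htH <;> rw [hay] at hk
  · have h1 : orderOf t ∣ orderOf x := by
      rw [hk]
      exact orderOf_dvd_of_mem_zpowers (zpow_mem_zpowers x k)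
    rw [ht] at h1
    exact Nat.not_even_iff_odd.2 hx (even_iff_two_dvd.2 h1)
  · refine hax ?_
    have h2 : Commute (a * x ^ k) x := hk ▸ hxt.symm
    have := h2.mul_left ((Commute.refl x).zpow_left k).inv_left
    rwa [mul_inv_cancel_right] at this

section Odd

variable [Finite G]

/-- A permutation of prime order fixes a number of points congruent to the degree. -/
theorem card_modEq_fixed {α : Type*} [Finite α] (τ : Equiv.Perm α) {r : ℕ} [hr : Fact r.Prime]
    (hτ : τ ^ r = 1) : Nat.card α ≡ Nat.card {x : α // τ x = x} [MOD r] := by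
  have hP : IsPGroup r (zpowers τ) := by
    rintro ⟨g, hg⟩
    obtain ⟨i, rfl⟩ := mem_zpowers_iff.1 hg
    refine ⟨1, Subtype.ext ?_⟩
    show (τ ^ i) ^ r ^ 1 = 1
    rw [pow_one, ← zpow_natCast, ← zpow_mul, mul_comm, zpow_mul, zpow_natCast, hτ, one_zpow]
  have h1 := hP.card_modEq_card_fixedPoints (α := α)
  have e : ∀ x : α, x ∈ MulAction.fixedPoints (zpowers τ) α ↔ τ x = x := by
    refine fun x => ⟨fun hx => hx ⟨τ, mem_zpowers τ⟩, fun hx g => ?_⟩
    obtain ⟨i, hi⟩ := mem_zpowers_iff.1 g.2
    show (g : Equiv.Perm α) x = x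
    rw [← hi]
    exact Equiv.Perm.zpow_apply_eq_self_of_apply_eq_self hx i
  exact h1.trans (Nat.card_congr (Equiv.subtypeEquivRight e) ▸ Nat.ModEq.refl _)

/-- An automorphism of prime order `r > p` of a `p`-group with the property is trivial. -/
theorem aut_trivial {U : Type*} [Group U] [Finite U] {p r : ℕ} [hp : Fact p.Prime]
    [hr : Fact r.Prime] (hp2 : p ≠ 2) (hpr : p < r) (hU : IsPGroup p U) (hS : SC U)
    (σ : MulAut U) (hσ : σ ^ r = 1) : σ = 1 := by
  classical
  obtain ⟨n, hn⟩ := hU.exists_card_eq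
  have hp3 : 3 ≤ p := by have := hp.out.two_le; omega
  have hr0 := hr.out
  by_cases hcyc : IsCyclic U
  · refine orderOf_eq_one_iff.1 ((Nat.dvd_prime hr0).1 (orderOf_dvd_of_pow_eq_one hσ) |>.resolve_right
      fun h => ?_)
    have h1 : r ∣ Nat.card (MulAut U) := h ▸ _root_.orderOf_dvd_natCard σ
    rw [IsCyclic.card_mulAut, hn] at h1
    rcases Nat.eq_zero_or_pos n with rfl | hn0
    · simp at h1; exact hr0.ne_one h1
    rw [Nat.totient_prime_pow hp.out hn0] at h1
    rcases hr0.dvd_mul.1 h1 with h2 | h2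
    · have := (Nat.prime_dvd_prime_iff_eq hr0 hp.out).1 (hr0.dvd_of_dvd_pow h2); omega
    · have := Nat.le_of_dvd (by omega) h2; omega
  haveI : Nontrivial U := by
    by_contra h
    haveI := not_nontrivial_iff_subsingleton.1 h
    exact hcyc isCyclic_of_subsingleton
  haveI := hU.center_nontrivial
  obtain ⟨z, hz⟩ := exists_prime_orderOf_dvd_card' (G := Subgroup.center U) p
    ((hU.to_subgroup _).card_eq_or_dvd.resolve_left Finite.one_lt_card.ne')
  have hz' : orderOf (z : U) = p := (Subgroup.orderOf_coe z).trans hz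
  obtain ⟨a, ha, hne⟩ : ∃ a : U, orderOf a = p ∧ a ∉ zpowers (z : U) := by
    by_contra hall
    push Not at hall
    have huniq : ∀ H K : Subgroup U, Nat.card H = p → Nat.card K = p → H = K := by
      have key : ∀ H : Subgroup U, Nat.card H = p → H = zpowers (z : U) := by
        intro H hH
        obtain ⟨⟨h, hhH⟩, hh⟩ := exists_prime_orderOf_dvd_card' (G := H) p (dvd_of_eq hH.symm)
        rw [Subgroup.orderOf_mk] at hh
        have h1 : zpowers h = H := eq_of_le_of_card_ge (zpowers_le.2 hhH)
          (by rw [Nat.card_zpowers, hh, hH])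
        rw [← h1]
        exact eq_of_le_of_card_ge (zpowers_le.2 (hall h hh))
          (by rw [Nat.card_zpowers, Nat.card_zpowers, hh, hz'])
      exact fun H K hH hK => (key H hH).trans (key K hK).symm
    rcases PGroup.cyclic_or_quaternion_of_unique hU huniq with h | ⟨h, -⟩
    · exact hcyc h
    · exact hp2 h
  have haz : Commute a (z : U) := Subgroup.mem_center_iff.1 z.2 a
  -- the centraliser of `a` has order at most `p ^ 2`
  have hCa : Nat.card (centralizer ({a} : Set U)) ≤ p * p := by
    have hle : centralizer ({a} : Set U) ≤ zpowers a ⊔ zpowers (z : U) := fun x hx =>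
      (eq_sup_of_commute hS ha hz' haz hne (mem_centralizer_singleton_iff.1 hx)
        (Subgroup.mem_center_iff.1 z.2 x)).1
    refine (card_le_of_le hle).trans ?_
    haveI : (zpowers (z : U)).Normal := ⟨fun y hy g => by
      obtain ⟨i, rfl⟩ := mem_zpowers_iff.1 hy
      rw [Subgroup.mem_center_iff.1 (zpow_mem z.2 i) g, mul_inv_cancel_right]
      exact zpow_mem_zpowers _ i⟩
    have h1 : Nat.card (zpowers a ⊔ zpowers (z : U) : Subgroup U) ∣
        Nat.card (zpowers (z : U)) * Nat.card (zpowers a) := by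
      rw [sup_comm]; exact PCore.card_sup_dvd _ _
    rw [Nat.card_zpowers, Nat.card_zpowers, ha, hz'] at h1
    exact Nat.le_of_dvd (Nat.mul_pos hp.out.pos hp.out.pos) h1
  -- hence `|U : U'| ≤ p ^ 2`
  have hidx : Nat.card (U ⧸ _root_.commutator U) ≤ p * p := by
    have hinj : Nat.card (U ⧸ centralizer ({a} : Set U)) ≤ Nat.card (_root_.commutator U) := by
      refine Nat.card_le_card_of_injective (fun q => (⟨q.out * a * q.out⁻¹ * a⁻¹,
        Subgroup.commutator_mem_commutator (mem_top q.out) (mem_top a)⟩ : _root_.commutator U)) ?_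
      intro q q' h
      have h1 : q.out * a * q.out⁻¹ * a⁻¹ = q'.out * a * q'.out⁻¹ * a⁻¹ := congrArg Subtype.val h
      rw [← QuotientGroup.out_eq' q, ← QuotientGroup.out_eq' q', QuotientGroup.eq,
        mem_centralizer_singleton_iff]
      calc q.out⁻¹ * q'.out * a = q.out⁻¹ * (q'.out * a * q'.out⁻¹ * a⁻¹) * a * q'.out := by group
        _ = a * (q.out⁻¹ * q'.out) := by rw [← h1]; group
    have e1 := Subgroup.card_eq_card_quotient_mul_card_subgroup (centralizer ({a} : Set U))
    have e2 := Subgroup.card_eq_card_quotient_mul_card_subgroup (_root_.commutator U)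
    have h3 : Nat.card (U ⧸ _root_.commutator U) * Nat.card (_root_.commutator U) ≤
        p * p * Nat.card (_root_.commutator U) := by
      rw [← e2, e1, mul_comm (p * p)]
      exact Nat.mul_le_mul hinj hCa
    exact Nat.le_of_mul_le_mul_right h3 Nat.card_pos
  -- the action on `U / U'`
  have hmap : (_root_.commutator U).map σ.toMonoidHom = _root_.commutator U :=
    (Subgroup.characteristic_iff_map_eq.1 inferInstance) σ
  set σ' : (U ⧸ _root_.commutator U) ≃* (U ⧸ _root_.commutator U) :=
    QuotientGroup.congr _ _ σ hmap with hσ'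
  have happ : ∀ (k : ℕ) (u : U), (σ'.toEquiv : Equiv.Perm (U ⧸ _root_.commutator U))^[k] (u : U ⧸ _root_.commutator U) = (((σ ^ k) u : U) : U ⧸ _root_.commutator U) := by
    intro k u
    induction k with
    | zero => rfl
    | succ k ih =>
      rw [Function.iterate_succ_apply', ih, pow_succ', MulAut.mul_apply]
      rfl
  have hpow : (σ'.toEquiv : Equiv.Perm (U ⧸ _root_.commutator U)) ^ r = 1 := by
    refine Equiv.ext fun q => ?_
    induction q using QuotientGroup.induction_on with
    | _ u =>
      rw [← Equiv.Perm.iterate_eq_pow, happ, hσ]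
      rfl
  obtain ⟨m, hm⟩ : ∃ m, Nat.card (U ⧸ _root_.commutator U) = p ^ m :=
    (hU.to_quotient _).exists_card_eq
  have hm2 : m ≤ 2 := by
    by_contra h
    have : p ^ 3 ≤ p * p := (Nat.pow_le_pow_right hp.out.pos (show 3 ≤ m by omega)).trans (hm ▸ hidx)
    nlinarith [hp.out.two_le]
  let F : Subgroup (U ⧸ _root_.commutator U) :=
    MonoidHom.eqLocus σ'.toMonoidHom (MonoidHom.id _)
  obtain ⟨j, hj⟩ : ∃ j, Nat.card F = p ^ j := ((hU.to_quotient _).to_subgroup F).exists_card_eq
  have hmod := card_modEq_fixed _ hpow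
  rw [hm, show Nat.card {x : U ⧸ _root_.commutator U //
    (σ'.toEquiv : Equiv.Perm (U ⧸ _root_.commutator U)) x = x} = Nat.card F from rfl, hj] at hmod
  have hjm : j ≤ m := by
    have := Subgroup.card_subgroup_dvd_card F
    rw [hm, hj] at this
    exact (Nat.pow_dvd_pow_iff_le_right hp.out.one_lt).1 this
  have hjeq : j = m := by
    by_contra hjne
    have hco : ¬ r ∣ p ^ j := fun h => by
      have := (Nat.prime_dvd_prime_iff_eq hr0 hp.out).1 (hr0.dvd_of_dvd_pow h); omega
    have h1 : r ∣ p ^ m - p ^ j := (Nat.modEq_iff_dvd' (Nat.pow_le_pow_right hp.out.pos hjm)).1 hmod.symm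
    rw [show p ^ m - p ^ j = p ^ j * (p ^ (m - j) - 1) by
      rw [Nat.mul_sub, mul_one, ← pow_add, Nat.add_sub_cancel' hjm]] at h1
    have h2 := (hr0.dvd_mul.1 h1).resolve_left hco
    rcases (show m - j = 1 ∨ m - j = 2 by omega) with h | h <;> rw [h] at h2
    · rw [pow_one] at h2
      have := Nat.le_of_dvd (by omega) h2; omega
    · rw [show p ^ 2 - 1 = (p + 1) * (p - 1) by rw [← Nat.sq_sub_sq, one_pow]] at h2
      rcases hr0.dvd_mul.1 h2 with h2 | h2
      · have := Nat.le_of_dvd (by omega) h2
        have h3 : r = p + 1 := by omega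
        have := hp.out.odd_of_ne_two hp2
        have := hr0.odd_of_ne_two (by omega)
        obtain ⟨a, ha'⟩ := hp.out.odd_of_ne_two hp2
        obtain ⟨b, hb'⟩ := hr0.odd_of_ne_two (by omega)
        omega
      · have := Nat.le_of_dvd (by omega) h2; omega
  have hFtop : F = ⊤ := F.eq_top_of_card_eq (by rw [hj, hm, hjeq])
  -- fixed points cover `U / U'`
  let C : Subgroup U := MonoidHom.eqLocus σ.toMonoidHom (MonoidHom.id _)
  have hsup : C ⊔ frattini U = ⊤ := by
    rw [eq_top_iff]
    intro u _
    have hu : ((σ u : U) : U ⧸ _root_.commutator U) = (u : U ⧸ _root_.commutator U) :=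
      (hFtop ▸ mem_top _ : (u : U ⧸ _root_.commutator U) ∈ F)
    -- a fixed point in the coset
    let T := {w : U // (w : U ⧸ _root_.commutator U) = (u : U ⧸ _root_.commutator U)}
    have hTσ : ∀ w : U, ((σ w : U) : U ⧸ _root_.commutator U) = (u : U ⧸ _root_.commutator U) ↔
        (w : U ⧸ _root_.commutator U) = (u : U ⧸ _root_.commutator U) := by
      intro w
      show σ' (w : U ⧸ _root_.commutator U) = _ ↔ _
      conv_lhs => rw [← (show σ' (u : U ⧸ _root_.commutator U) = u from hu)]
      exact σ'.injective.eq_iff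
    let τ : Equiv.Perm T := σ.toEquiv.subtypeEquiv fun w => (hTσ w).symm
    have hτ : τ ^ r = 1 := by
      have key : ∀ (k : ℕ) (w : T), ((τ ^ k) w).1 = (σ ^ k) w.1 := by
        intro k w
        induction k with
        | zero => rfl
        | succ k ih =>
          rw [pow_succ', pow_succ', Equiv.Perm.mul_apply, MulAut.mul_apply, ← ih]
          rfl
      refine Equiv.ext fun w => Subtype.ext ?_
      rw [key, hσ]
      rfl
    have hTcard : Nat.card T = Nat.card (_root_.commutator U) := by
      refine Nat.card_eq_of_bijective (fun w : T => (⟨u⁻¹ * w.1, QuotientGroup.eq.1 w.2.symm⟩ : _root_.commutator U)) ⟨fun a b h => Subtype.ext (mul_left_cancel (congrArg Subtype.val h :)), fun c => ⟨⟨u * c, ?_⟩, Subtype.ext (inv_mul_cancel_left u c)⟩⟩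
      exact QuotientGroup.mk_mul_of_mem u c.2
    obtain ⟨i, hi⟩ := (hU.to_subgroup (_root_.commutator U)).exists_card_eq
    have hmod2 := card_modEq_fixed τ hτ
    rw [hTcard, hi] at hmod2
    have hpos : Nat.card {w : T // τ w = w} ≠ 0 := fun h0 => by
      rw [h0, Nat.modEq_zero_iff_dvd] at hmod2
      have := (Nat.prime_dvd_prime_iff_eq hr0 hp.out).1 (hr0.dvd_of_dvd_pow hmod2); omega
    obtain ⟨⟨⟨w, hw⟩, hwτ⟩⟩ := (Nat.card_pos_iff.1 (Nat.pos_of_ne_zero hpos)).1
    have hwC : w ∈ C := congrArg Subtype.val hwτ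
    have h1 : w⁻¹ * u ∈ frattini U := PGroup.commutator_le_frattini hU (QuotientGroup.eq.1 hw)
    have := mul_mem (mem_sup_left hwC : w ∈ C ⊔ frattini U) (mem_sup_right h1)
    rwa [mul_inv_cancel_left] at this
  have hC : C = ⊤ := frattini_nongenerating hsup
  exact MulEquiv.ext fun u => (hC ▸ mem_top u : u ∈ C)

/-- A nonabelian simple group with the property has even order. -/
theorem even_card [IsSimpleGroup G] (hna : ¬ IsMulCommutative G) (hS : SC G) :
    2 ∣ Nat.card G := by
  by_contra h2
  set p := (Nat.card G).minFac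
  have hG1 : Nat.card G ≠ 1 := by
    haveI : Nontrivial G := IsSimpleGroup.toNontrivial
    exact Finite.one_lt_card.ne'
  have hp : p.Prime := Nat.minFac_prime hG1
  haveI := Fact.mk hp
  have hp2 : p ≠ 2 := fun h => h2 (h ▸ Nat.minFac_dvd _)
  obtain ⟨P⟩ := (inferInstance : Nonempty (Sylow p G))
  have hcompl : Cfsg.HasNormalPComplement p G := by
    refine Transfer.hasNormalPComplement_of_centralizer P fun Q hQ g hg hco => ?_
    have hQp : IsPGroup p Q := P.2.to_le hQ
    set σ : MulAut Q := Q.normalizerMonoidHom ⟨g, hg⟩ with hσ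
    have hdvd : orderOf σ ∣ orderOf g := by
      refine (orderOf_map_dvd _ _).trans ?_
      rw [← Subgroup.orderOf_coe]
    have h1 : σ = 1 := by
      by_contra hne
      obtain ⟨r, hr, hrd⟩ := Nat.exists_prime_and_dvd (fun h => hne (orderOf_eq_one_iff.1 h))
      haveI := Fact.mk hr
      have hrG : r ∣ Nat.card G := (hrd.trans hdvd).trans (_root_.orderOf_dvd_natCard g)
      have hrp : r ≠ p := by
        rintro rfl
        exact hr.ne_one (Nat.eq_one_of_dvd_coprimes hco (hrd.trans hdvd) dvd_rfl)
      have hge : p ≤ r := Nat.minFac_le_of_dvd hr.two_le hrG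
      have hord : orderOf (σ ^ (orderOf σ / r)) = r :=
        orderOf_pow_orderOf_div (orderOf_pos σ).ne' hrd
      have h3 := aut_trivial hp2 (lt_of_le_of_ne hge hrp.symm) hQp (hS.subgroup Q)
        (σ ^ (orderOf σ / r)) (by
          have h4 := pow_orderOf_eq_one (σ ^ (orderOf σ / r))
          rwa [hord] at h4)
      rw [h3, orderOf_one] at hord
      exact hr.ne_one hord.symm
    rw [mem_centralizer_iff]
    intro q hq
    have h2 : g * q * g⁻¹ = q := congrArg (fun f : MulAut Q => ((f ⟨q, hq⟩ : Q) : G)) h1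
    exact (mul_inv_eq_iff_eq_mul.1 h2).symm
  obtain ⟨P', N, hN, hcom⟩ := hcompl
  rcases hN.eq_bot_or_eq_top with rfl | rfl
  · rw [isComplement'_bot_left] at hcom
    have hGp : IsPGroup p G := by
      intro g
      obtain ⟨k, hk⟩ := P'.2 ⟨g, hcom ▸ mem_top g⟩
      exact ⟨k, congrArg Subtype.val hk⟩
    haveI := hGp.isNilpotent
    exact hna ⟨⟨IsSimpleGroup.comm_iff_isSolvable.2 inferInstance⟩⟩
  · rw [isComplement'_top_left] at hcom
    exact P'.ne_bot_of_dvd_card (Nat.minFac_dvd _) hcom

end Odd

end Cfsg.Agent.ScNoncyclic
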