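import Cfsg.Agent.Lib.ScNoncyclic.Recognition
import Cfsg.Agent.Lib.PSL2.Classes

/-!
# In `PSL(2, q)`, `q = 4, 9` or a Fermat or Mersenne prime, noncyclic subgroups contain their centralisers
-/

set_option autoImplicit false
set_option linter.style.haveILetI false

namespace Cfsg.Agent.ScNoncyclic

open Subgroup PSL2
open scoped MatrixGroups

section Criterion

variable {G : Type*} [Group G]

theorem isCyclic_of_le' {H K : Subgroup G} (hK : IsCyclic K) (h : H ≤ K) : IsCyclic H :=
  haveI := hK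
  isCyclic_of_surjective _ (subgroupOfEquivOfLe h).surjective

theorem mem_of_card_dvd_sq [Finite G] {H C : Subgroup G} {p : ℕ} [hp : Fact p.Prime] {x : G}
    (hHC : H ≤ C) (hH : ¬ IsCyclic H) (hC : Nat.card C ∣ p ^ 2) (hx : x ∈ C) : x ∈ H := by
  obtain ⟨i, hi, hCi⟩ := (Nat.dvd_prime_pow hp.out).1 hC
  obtain ⟨j, hj, hHj⟩ := (Nat.dvd_prime_pow hp.out).1 (hCi ▸ card_dvd_of_le hHC)
  have hj2 : 2 ≤ j := by
    by_contra hlt
    interval_cases j
    · rw [pow_zero, Subgroup.card_eq_one] at hHj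
      subst hHj
      exact hH isCyclic_of_subsingleton
    · rw [pow_one] at hHj
      exact hH (isCyclic_of_prime_card hHj)
  rwa [eq_of_le_of_card_ge hHC (by rw [hCi, hHj]; exact Nat.pow_le_pow_right hp.out.pos (by omega))]

/-- A noncyclic subgroup of a `2`-group with a cyclic subgroup `K` of index two contains the
involution of `K`. -/
theorem mem_of_index_two [Finite G] {H C K : Subgroup G} {m : ℕ} {x : G} (hHC : H ≤ C)
    (hH : ¬ IsCyclic H) (hC : Nat.card C = 2 ^ m) (hKC : K ≤ C) (hKi : Nat.card C = 2 * Nat.card K)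
    (hK : IsCyclic K) (hxK : x ∈ K) (hx : orderOf x = 2) : x ∈ H := by
  classical
  haveI : Fact (Nat.Prime 2) := ⟨Nat.prime_two⟩
  have hne : H ⊓ K ≠ ⊥ := fun hbot => by
    have hinj := mul_injective_of_disjoint (disjoint_iff.2 hbot)
    have hcard : Nat.card H * Nat.card K ≤ Nat.card C := by
      rw [← Nat.card_prod]
      exact Nat.card_le_card_of_injective
        (fun d : H × K => (⟨d.1 * d.2, mul_mem (hHC d.1.2) (hKC d.2.2)⟩ : C))
        fun d d' hdd => hinj (congrArg Subtype.val hdd)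
    have h2 : Nat.card H ≤ 2 := Nat.le_of_mul_le_mul_right (hKi ▸ hcard) Nat.card_pos
    have h0 : 0 < Nat.card H := Nat.card_pos
    interval_cases h : Nat.card H
    · rw [Subgroup.card_eq_one] at h
      subst h
      exact hH isCyclic_of_subsingleton
    · exact hH (isCyclic_of_prime_card (p := 2) h)
  have hP : IsPGroup 2 (H ⊓ K : Subgroup G) :=
    (IsPGroup.of_card hC).to_le (inf_le_left.trans hHC)
  have hdvd : 2 ∣ Nat.card (H ⊓ K : Subgroup G) := by
    obtain ⟨i, hi⟩ := IsPGroup.exists_card_eq hP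
    rw [hi]
    exact dvd_pow_self 2 fun e => hne (Subgroup.card_eq_one.1 (by rw [hi, e, pow_zero]))
  obtain ⟨⟨t, ht⟩, ht2⟩ := exists_prime_orderOf_dvd_card' (G := (H ⊓ K : Subgroup G)) 2 hdvd
  rw [orderOf_mk] at ht2
  suffices h : t = x from h ▸ (mem_inf.1 ht).1
  by_contra htx
  haveI := Fintype.ofFinite K
  haveI := hK
  have h3 := IsCyclic.card_pow_eq_one_le (α := K) (n := 2) two_pos
  have hsub : ({1, ⟨t, (mem_inf.1 ht).2⟩, ⟨x, hxK⟩} : Finset K) ⊆
      (Finset.univ : Finset K).filter fun k => k ^ 2 = 1 := by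
    intro k hk
    simp only [Finset.mem_insert, Finset.mem_singleton] at hk
    rw [Finset.mem_filter]
    refine ⟨Finset.mem_univ _, ?_⟩
    rcases hk with rfl | rfl | rfl
    · exact one_pow 2
    · exact Subtype.ext (by rw [SubgroupClass.coe_pow]; exact ht2 ▸ pow_orderOf_eq_one t)
    · exact Subtype.ext (by rw [SubgroupClass.coe_pow]; exact hx ▸ pow_orderOf_eq_one x)
  have := (Finset.card_le_card hsub).trans h3
  rw [Finset.card_eq_three.2 ⟨_, _, _, ?_, ?_, ?_, rfl⟩] at this
  · omega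
  · intro e
    have h1 : (1 : G) = t := congrArg Subtype.val e
    rw [← h1, orderOf_one] at ht2
    omega
  · intro e
    have h1 : (1 : G) = x := congrArg Subtype.val e
    rw [← h1, orderOf_one] at hx
    omega
  · exact fun e => htx (congrArg Subtype.val e)

theorem SC.of_criterion
    (h : ∀ x : G, x ≠ 1 → ∀ H : Subgroup G, ¬ IsCyclic H → H ≤ centralizer {x} → x ∈ H) :
    SC G := by
  intro H hH x hx
  by_cases h1 : x = 1
  · rw [h1]; exact one_mem H
  · exact h x h1 H hH fun k hk =>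
      mem_centralizer_singleton_iff.2 (mem_centralizer_iff.1 hx k hk)

end Criterion

variable {F : Type*} [Field F] [Fintype F]

theorem card_cent_of_tr_sq_eq_four {g : SL(2, F)} (hg : g ∉ center SL(2, F)) (h4 : tr g ^ 2 = 4) :
    Nat.card (cent g) = Nat.gcd 2 (Fintype.card F - 1) * Fintype.card F := by
  rcases trichotomy hg with ⟨k, a, ha, rfl⟩ | ⟨k, s, hs, rfl | rfl⟩ | ht
  · exact absurd (by rwa [tr_conj] at h4) (tr_dd_sq_ne_four ha)
  · rw [card_cent_conj, cent_uu hs, card_pmUnip]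
  · rw [cent_neg, card_cent_conj, cent_uu hs, card_pmUnip]
  · exact absurd h4 ht.sq_ne_four

theorem Admissible.torus_two_group {q n : ℕ} (hA : Admissible q) (hodd : Odd q)
    (hn : n = q - 1 ∨ n = q + 1) (h4 : 4 ∣ n) : ∃ m, n = 2 ^ m := by
  rcases hA with rfl | rfl | ⟨hq, k, hk⟩
  · exact absurd hodd (by decide)
  · exact ⟨3, by omega⟩
  · have := hq.two_le
    rcases Nat.lt_or_ge k 2 with hk2 | hk2
    · interval_cases k <;> exact ⟨2, by omega⟩
    · have : 4 ∣ 2 ^ k := pow_dvd_pow 2 hk2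
      exact ⟨k, by omega⟩

/-- The converse direction. -/
theorem sc_psl (hA : Admissible (Fintype.card F)) : SC PSL(2, F) := by
  refine SC.of_criterion fun x hx1 H hH hHC => ?_
  obtain ⟨g, rfl⟩ := mk_surjective x
  have hg := mk_ne_one_iff.1 hx1
  have hxC : PSL2.mk g ∈ centralizer ({PSL2.mk g} : Set PSL(2, F)) :=
    mem_centralizer_singleton_iff.2 rfl
  by_cases h0 : tr g = 0 ∧ (2 : F) ≠ 0
  · obtain ⟨ht, h2⟩ := h0
    have hsq := sq_eq_neg_one_iff.2 ht
    obtain ⟨hC, hcard, h4⟩ := involution_data h2 hsq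
    have hne := tr_sq_ne_four_of_sq h2 hsq
    obtain ⟨m, hm⟩ := hA.torus_two_group (odd_card_iff.2 h2) (card_cent_of_tr hne) h4
    have hd : Nat.gcd 2 (Fintype.card F - 1) = 2 := by
      obtain ⟨k, hk⟩ := odd_card_iff.2 h2
      exact Nat.gcd_eq_left ⟨k, by omega⟩
    refine mem_of_index_two (K := (cent g).map PSL2.mk) hHC hH (hcard.trans hm) ?_ ?_
      (isCyclic_map_cent hne) (mem_map_of_mem _ (mem_cent.2 (Commute.refl g))) ?_
    · rw [hC]
      exact map_mono (cent_le_normalizer g)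
    · rw [hcard, ← card_map_cent g, hd]
    · exact orderOf_eq_prime (by rw [pow_two, ← map_mul, hsq, mk_neg_one]) hx1
  · have hor : tr g ≠ 0 ∨ (2 : F) = 0 := by tauto
    have hC := psl_centralizer_eq hor
    by_cases h4 : tr g ^ 2 = 4
    · obtain ⟨p, hp⟩ := CharP.exists F
      have hpow : ∃ p : ℕ, p.Prime ∧ Fintype.card F ∣ p ^ 2 := by
        rcases hA with h | h | ⟨h, -⟩
        · exact ⟨2, Nat.prime_two, by rw [h]; norm_num⟩
        · exact ⟨3, Nat.prime_three, by rw [h]; norm_num⟩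
        · exact ⟨_, h, Dvd.intro _ (pow_two _).symm⟩
      obtain ⟨p, hp, hdvd⟩ := hpow
      haveI := Fact.mk hp
      refine mem_of_card_dvd_sq (p := p) hHC hH ?_ hxC
      rw [hC]
      have h1 := (card_map_cent g).trans (card_cent_of_tr_sq_eq_four hg h4)
      rwa [Nat.eq_of_mul_eq_mul_left (Nat.gcd_pos_of_pos_left _ two_pos) h1]
    · exact absurd (isCyclic_of_le' (hC ▸ isCyclic_map_cent h4) hHC) hH

end Cfsg.Agent.ScNoncyclic
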