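import Cfsg.Agent.Lib.ScNoncyclic.Basic
import Cfsg.Agent.Lib.TICentralisers.Rigid
import Cfsg.Agent.Lib.Involution.BaerSuzuki
import Cfsg.Agent.Lib.Transfer.Thompson
import Cfsg.Agent.Lib.BSW.Structure
import Cfsg.Agent.Lib.PGroup.CyclicMaximal
import Cfsg.Agent.Lib.PGroup.MaximalClassTwo
import Cfsg.Agent.S0225
import Cfsg.Agent.S0514
import Cfsg.Agent.S0107
import Cfsg.Agent.S3224

/-!
# The Sylow 2-subgroup of a simple group whose noncyclic subgroups contain their centralisers
-/

set_option autoImplicit false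
set_option linter.style.haveILetI false

namespace Cfsg.Agent.ScNoncyclic

open Subgroup

variable {G : Type*} [Group G] [Finite G]

theorem not_mem_zpowers_of_involutions {a t : G} (ht : orderOf t = 2) (ha : orderOf a = 2)
    (hne : a ≠ t) : a ∉ zpowers t := by
  intro h
  obtain ⟨i, hi⟩ := mem_zpowers_iff.1 h
  rcases Int.even_or_odd i with ⟨j, hj⟩ | ⟨j, hj⟩
  · rw [hj, zpow_add, ← (Commute.refl t).mul_zpow, Involution.sq_of_orderOf_two ht, one_zpow] at hi
    rw [← hi, orderOf_one] at ha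
    omega
  · refine hne ?_
    rw [← hi, hj, zpow_add, zpow_mul, show t ^ (2 : ℤ) = 1 by
      rw [zpow_two, Involution.sq_of_orderOf_two ht], one_zpow, one_mul, zpow_one]

theorem simple_index_two [IsSimpleGroup G] (hna : ¬ IsMulCommutative G) {M : Subgroup G}
    (hM : M.Normal) (hi : M.index = 2) : False := by
  rcases hM.eq_bot_or_eq_top with rfl | rfl
  · rw [index_bot] at hi
    haveI : Fact (Nat.Prime 2) := ⟨Nat.prime_two⟩
    haveI := isCyclic_of_prime_card hi
    exact hna ⟨⟨fun a b => by letI := IsCyclic.commGroup (α := G); exact mul_comm a b⟩⟩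
  · rw [index_top] at hi; omega

/-- The centraliser of the central involution is the Sylow subgroup when it has a normal
2-complement. -/
theorem cent_eq_sylow (hS : SC G) (S : Sylow 2 G) {z a : G} (hz : orderOf z = 2)
    (ha : orderOf a = 2) (haS : a ∈ (S : Subgroup G)) (hne : a ≠ z)
    (hzc : ∀ s ∈ (S : Subgroup G), Commute s z)
    (hN : ∃ N : Subgroup (centralizer ({z} : Set G)), N.Normal ∧ Odd (Nat.card N) ∧
      ∃ k : ℕ, N.index = 2 ^ k) :
    centralizer ({z} : Set G) = (S : Subgroup G) := by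
  classical
  haveI : Fact (Nat.Prime 2) := ⟨Nat.prime_two⟩
  obtain ⟨N, hNn, hNo, k, hk⟩ := hN
  have haa := Involution.sq_of_orderOf_two ha
  have haC : a ∈ centralizer ({z} : Set G) := mem_centralizer_singleton_iff.2 (hzc a haS).eq
  have hfix : ∀ x ∈ N.map (centralizer ({z} : Set G)).subtype, Commute x a → x = 1 := by
    rintro _ ⟨x, hx, rfl⟩ hxa
    have h1 := eq_sup_of_commute hS (p := 2) ha hz (hzc a haS)
      (not_mem_zpowers_of_involutions hz ha hne) hxa (mem_centralizer_singleton_iff.1 x.2)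
    have h2 : orderOf (x : G) ∣ 2 := orderOf_dvd_of_pow_eq_one h1.2
    have h3 : Odd (orderOf (x : G)) := by
      rw [Subgroup.orderOf_coe]
      exact hNo.of_dvd_nat (N.orderOf_dvd_natCard hx)
    rcases (Nat.dvd_prime Nat.prime_two).1 h2 with h | h
    · exact orderOf_eq_one_iff.1 h
    · rw [h] at h3; exact absurd h3 (by decide)
  have hinv := TICentralisers.inverts_of_fpf haa (N.map (centralizer ({z} : Set G)).subtype) (by
    rintro _ ⟨x, hx, rfl⟩
    refine ⟨_, hNn.conj_mem x hx ⟨a, haC⟩, ?_⟩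
    show a * (x : G) * a⁻¹ = a * x * a
    rw [Involution.inv_of_orderOf_two ha]) hfix
  have hN1 : N = ⊥ := by
    refine (Subgroup.eq_bot_iff_forall _).2 fun x hx => Subtype.ext ?_
    exact eq_one_of_inverted hS hz ha (hzc a haS) hne
      (by rw [Subgroup.orderOf_coe]; exact hNo.of_dvd_nat (N.orderOf_dvd_natCard hx))
      (mem_centralizer_singleton_iff.1 x.2) (hinv _ (mem_map_of_mem _ hx))
  rw [hN1, index_bot] at hk
  exact S.is_maximal' (IsPGroup.of_card hk)
    fun s hs => mem_centralizer_singleton_iff.2 (hzc s hs).eq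

/-- A central involution and a noncentral involution of a Sylow 2-subgroup. -/
theorem exists_setup [IsSimpleGroup G] (hna : ¬ IsMulCommutative G) (hS : SC G) :
    ∃ (S : Sylow 2 G) (z a : G), z ∈ (S : Subgroup G) ∧ a ∈ (S : Subgroup G) ∧ orderOf z = 2 ∧
      orderOf a = 2 ∧ a ≠ z ∧ ∀ s ∈ (S : Subgroup G), Commute s z := by
  classical
  haveI : Fact (Nat.Prime 2) := ⟨Nat.prime_two⟩
  have h2 := even_card hna hS
  obtain ⟨E, hE⟩ : ∃ E : Subgroup G, IsKleinFour E := by
    by_contra hall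
    push Not at hall
    obtain ⟨w, hw, N, hN, hNo, hcomm⟩ := S0225.result (even_iff_two_dvd.2 h2) hall
    rcases hN.eq_bot_or_eq_top with rfl | rfl
    · refine hna ?_
      have hwc : w ∈ Subgroup.center G := Subgroup.mem_center_iff.2 fun g => by
        have h1 := hcomm g
        rw [mem_bot, mul_inv_eq_one, mul_inv_eq_iff_eq_mul] at h1
        exact h1.symm
      rcases (inferInstance : (Subgroup.center G).Normal).eq_bot_or_eq_top with h | h
      · rw [h, mem_bot] at hwc
        rw [hwc, orderOf_one] at hw; omega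
      · exact ⟨⟨fun a b => Subgroup.mem_center_iff.1 (h ▸ mem_top b) a⟩⟩
    · rw [card_top] at hNo
      exact Nat.not_even_iff_odd.2 hNo (even_iff_two_dvd.2 h2)
  haveI := hE
  obtain ⟨S, hES⟩ := (IsPGroup.of_card (p := 2) (n := 2) (IsKleinFour.card_four (G := E))).exists_le_sylow
  have hinv : ∀ e : E, e ≠ 1 → orderOf (e : G) = 2 := fun e he => by
    rw [Subgroup.orderOf_coe]
    exact orderOf_eq_prime (by rw [pow_two, IsKleinFour.mul_self]) he
  haveI : Nontrivial (S : Subgroup G) :=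
    (Subgroup.nontrivial_iff_ne_bot _).2 (S.ne_bot_of_dvd_card h2)
  haveI := S.2.center_nontrivial
  obtain ⟨z, hz⟩ := exists_prime_orderOf_dvd_card' (G := Subgroup.center (S : Subgroup G)) 2
    ((S.2.to_subgroup _).card_eq_or_dvd.resolve_left Finite.one_lt_card.ne')
  have hz' : orderOf ((z : (S : Subgroup G)) : G) = 2 := by
    rw [Subgroup.orderOf_coe, Subgroup.orderOf_coe, hz]
  obtain ⟨e, he1, hez⟩ : ∃ e : E, e ≠ 1 ∧ (e : G) ≠ ((z : (S : Subgroup G)) : G) := by
    by_contra hall
    push Not at hall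
    haveI := Fintype.ofFinite E
    have : Fintype.card E ≤ 2 := by
      refine le_trans ?_ (Fintype.card_bool).le
      refine Fintype.card_le_of_injective (fun e => decide (e = 1)) fun e e' h => ?_
      have h' : e = 1 ↔ e' = 1 := by simpa using h
      by_cases he : e = 1
      · rw [he, h'.1 he]
      · exact Subtype.ext ((hall e he).trans (hall e' (fun e0 => he (h'.2 e0))).symm)
    rw [← Nat.card_eq_fintype_card, IsKleinFour.card_four] at this
    omega
  exact ⟨S, _, _, (z : (S : Subgroup G)).2, hES e.2, hz', hinv e he1, hez, fun s hs =>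
    congrArg Subtype.val (Subgroup.mem_center_iff.1 z.2 ⟨s, hs⟩)⟩

theorem card_cent_in_sylow (hS : SC G) {S : Subgroup G} {z a : G} (hzS : z ∈ S) (haS : a ∈ S)
    (hz : orderOf z = 2) (ha : orderOf a = 2) (hne : a ≠ z) (hzc : ∀ s ∈ S, Commute s z) :
    Nat.card (centralizer ({(⟨a, haS⟩ : S)} : Set S)) = 4 := by
  classical
  haveI : Fact (Nat.Prime 2) := ⟨Nat.prime_two⟩
  set K := zpowers a ⊔ zpowers z
  have haz := hzc a haS
  have hnm := not_mem_zpowers_of_involutions hz ha hne
  haveI hn : ((zpowers z).subgroupOf K).Normal := ⟨fun y hy g => by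
    rw [mem_subgroupOf] at hy ⊢
    obtain ⟨i, hi⟩ := mem_zpowers_iff.1 hy
    have hg : (g : G) ∈ centralizer ({z} : Set G) :=
      sup_le (zpowers_le.2 (mem_centralizer_singleton_iff.2 haz.eq))
        (zpowers_le.2 (mem_centralizer_singleton_iff.2 rfl)) g.2
    have hc : Commute (g : G) (y : G) := hi ▸ (show Commute (g : G) z from
      mem_centralizer_singleton_iff.1 hg).zpow_right i
    show (g : G) * y * (g : G)⁻¹ ∈ zpowers z
    rw [hc.eq, mul_inv_cancel_right]
    exact hy⟩
  have hK : Nat.card K = 4 := by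
    have h1 : Nat.card ((zpowers z).subgroupOf K ⊔ (zpowers a).subgroupOf K : Subgroup K) ∣
        Nat.card ((zpowers z).subgroupOf K) * Nat.card ((zpowers a).subgroupOf K) :=
      PCore.card_sup_dvd _ _
    rw [← subgroupOf_sup (show zpowers z ≤ K from le_sup_right) (show zpowers a ≤ K from le_sup_left),
      sup_comm (zpowers z), subgroupOf_self, card_top,
      Nat.card_congr (subgroupOfEquivOfLe (show zpowers z ≤ K from le_sup_right)).toEquiv,
      Nat.card_congr (subgroupOfEquivOfLe (show zpowers a ≤ K from le_sup_left)).toEquiv,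
      Nat.card_zpowers, Nat.card_zpowers, hz, ha] at h1
    have h2 : 2 ∣ Nat.card K := ha ▸ K.orderOf_dvd_natCard (mem_sup_left (mem_zpowers a))
    have h3 : Nat.card K ≠ 2 := fun h => hnm ((eq_of_le_of_card_ge (show zpowers z ≤ K from le_sup_right)
      (by rw [Nat.card_zpowers, hz, h])).symm ▸ mem_sup_left (mem_zpowers a))
    have h4 : Nat.card K ≤ 4 := Nat.le_of_dvd (by norm_num) h1
    have h5 : 0 < Nat.card K := Nat.card_pos
    interval_cases hc : Nat.card K <;> omega
  rw [← hK, ← card_subtype S]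
  congr 1
  rw [show (centralizer ({(⟨a, haS⟩ : S)} : Set S)).map S.subtype = K from ?_]
  refine le_antisymm ?_ (sup_le (zpowers_le.2 ?_) (zpowers_le.2 ?_))
  · rintro _ ⟨x, hx, rfl⟩
    exact (eq_sup_of_commute hS ha hz haz hnm
      (congrArg Subtype.val (mem_centralizer_singleton_iff.1 hx) :) (hzc _ x.2)).1
  · exact ⟨⟨a, haS⟩, mem_centralizer_singleton_iff.2 rfl, rfl⟩
  · exact ⟨⟨z, hzS⟩, mem_centralizer_singleton_iff.2 (Subtype.ext haz.symm.eq), rfl⟩

/-- Involutions of `C(z)` generate a 2-subgroup. -/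
theorem closure_involutions (hS : SC G) {z : G} (hz : orderOf z = 2) :
    IsPGroup 2 (closure {w : centralizer ({z} : Set G) | w * w = 1}) := by
  haveI : Fact (Nat.Prime 2) := ⟨Nat.prime_two⟩
  refine Involution.baer_suzuki_set (p := 2) _ (fun g c hc => ?_) fun a ha b hb => ?_
  · show g * c * g⁻¹ * (g * c * g⁻¹) = 1
    rw [show g * c * g⁻¹ * (g * c * g⁻¹) = g * (c * c) * g⁻¹ by group, show c * c = 1 from hc]
    group
  set c := a * b with hcdef
  obtain ⟨e, m, hm2, hm⟩ := Nat.exists_eq_pow_mul_and_not_dvd (orderOf_pos c).ne' 2 (by norm_num)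
  refine Involution.isPGroup_closure_pair (a := e) ha hb ?_
  by_contra hx1
  replace hx1 : ¬ c ^ 2 ^ e = 1 := hx1
  have hxord : orderOf (c ^ 2 ^ e) = m := by
    rw [orderOf_pow_of_dvd (pow_ne_zero _ two_ne_zero) (Dvd.intro m hm.symm), hm,
      Nat.mul_div_cancel_left _ (by positivity)]
  have hxodd : Odd (orderOf ((c ^ 2 ^ e : centralizer ({z} : Set G)) : G)) := by
    rw [Subgroup.orderOf_coe, hxord, Nat.odd_iff, ← Nat.two_dvd_ne_zero]
    exact hm2
  have hai : a⁻¹ = a := inv_eq_of_mul_eq_one_right ha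
  have hbi : b⁻¹ = b := inv_eq_of_mul_eq_one_right hb
  have hinv : a * c ^ 2 ^ e * a = (c ^ 2 ^ e)⁻¹ := by
    have h1 : a * c * a⁻¹ = c⁻¹ := by
      rw [hcdef, mul_inv_rev, hai, hbi, ← mul_assoc a a, show a * a = 1 from ha, one_mul]
    calc a * c ^ 2 ^ e * a = a * c ^ 2 ^ e * a⁻¹ := by rw [hai]
      _ = (a * c * a⁻¹) ^ 2 ^ e := conj_pow.symm
      _ = (c ^ 2 ^ e)⁻¹ := by rw [h1, inv_pow]
  by_cases ha1 : (a : G) = 1
  · have hac : c = b := by rw [hcdef, show a = 1 from Subtype.ext ha1, one_mul]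
    rw [hac] at hx1 hxord
    rcases e with _ | e
    · rw [pow_zero, pow_one] at hxord hx1
      have h2 : m ∣ 2 := hxord ▸ orderOf_dvd_of_pow_eq_one (by rw [pow_two]; exact hb)
      rcases (Nat.dvd_prime Nat.prime_two).1 h2 with h | h
      · exact hx1 (orderOf_eq_one_iff.1 (hxord.trans h))
      · exact hm2 (h ▸ dvd_rfl)
    · exact hx1 (by rw [pow_succ', pow_mul, pow_two, show b * b = 1 from hb, one_pow])
  have hao : orderOf (a : G) = 2 :=
    orderOf_eq_prime (by rw [pow_two]; exact congrArg Subtype.val ha) ha1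
  by_cases haz : (a : G) = z
  · have hcc : c * c = 1 := Subtype.ext (by
      show (a : G) * b * ((a : G) * b) = 1
      have hbz : Commute (b : G) z := mem_centralizer_singleton_iff.1 b.2
      rw [haz, show z * (b : G) * (z * b) = (z * z) * ((b : G) * b) by
        rw [mul_assoc, ← mul_assoc (b : G) z, hbz.eq]; group, Involution.sq_of_orderOf_two hz,
        one_mul]
      exact congrArg Subtype.val hb)
    rcases e with _ | e
    · rw [pow_zero, pow_one] at hxord hx1
      have h2 : m ∣ 2 := hxord ▸ orderOf_dvd_of_pow_eq_one (by rw [pow_two]; exact hcc)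
      rcases (Nat.dvd_prime Nat.prime_two).1 h2 with h | h
      · exact hx1 (orderOf_eq_one_iff.1 (hxord.trans h))
      · exact hm2 (h ▸ dvd_rfl)
    · exact hx1 (by rw [pow_succ', pow_mul, pow_two, hcc, one_pow])
  exact hx1 (Subtype.ext (eq_one_of_inverted hS hz hao (mem_centralizer_singleton_iff.1 a.2) haz
    hxodd (mem_centralizer_singleton_iff.1 (c ^ 2 ^ e).2) (congrArg Subtype.val hinv :)))

/-- The Sylow 2-subgroup is not semidihedral. -/
theorem not_quasiDihedral [IsSimpleGroup G] (hna : ¬ IsMulCommutative G) (hS : SC G)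
    (S : Sylow 2 G) {z : G} (hzS : z ∈ (S : Subgroup G)) (hz : orderOf z = 2)
    (hzc : ∀ s ∈ (S : Subgroup G), Commute s z) : ¬ Cfsg.IsQuasiDihedral (S : Subgroup G) := by
  classical
  haveI : Fact (Nat.Prime 2) := ⟨Nat.prime_two⟩
  intro hqd
  set P := (S : Subgroup G)
  obtain ⟨n, hn, hcard, x, y, hx, hy, hyx⟩ := hqd
  set h : ℕ := 2 ^ (n - 1) with hh
  have hpow : 2 ^ n = 2 * h := by rw [hh, ← pow_succ']; congr 1; omega
  have h4 : 4 ≤ h := by
    calc 4 = 2 ^ 2 := rfl
      _ ≤ h := Nat.pow_le_pow_right two_pos (by omega)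
  have hheven : 2 ∣ h := dvd_pow_self 2 (by omega)
  have hyx' : y * x * y⁻¹ = x ^ ((h : ℤ) - 1) := by
    rw [hyx, ← zpow_natCast]
    congr 1
    omega
  have hy2 : y ^ 2 = x ^ (0 : ℤ) := by rw [zpow_zero, ← hy, pow_orderOf_eq_one]
  have hzpow : ∀ i : ℤ, x ^ i = 1 ↔ ((2 * h : ℕ) : ℤ) ∣ i := fun i => by
    rw [← orderOf_dvd_iff_zpow_eq_one, hx, hpow]
  have hyn : y ∉ zpowers x := by
    intro hm
    obtain ⟨i, hi⟩ := mem_zpowers_iff.1 hm
    have h1 : y * x * y⁻¹ = x := by
      rw [← hi, ((Commute.refl x).zpow_left i).eq, mul_inv_cancel_right]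
    rw [h1] at hyx'
    have h2 : x ^ ((h : ℤ) - 2) = 1 := by
      rw [show (h : ℤ) - 2 = ((h : ℤ) - 1) - 1 by ring, zpow_sub_one, ← hyx', mul_inv_cancel]
    rw [hzpow] at h2
    have := Int.le_of_dvd (by omega) h2
    omega
  have helem : ∀ g : P, ∃ i : ℤ, g = x ^ i ∨ g = y * x ^ i :=
    PGroup.two_group_elements hcard hx hyn
  have hsq : ∀ i : ℤ, (y * x ^ i) ^ 2 = x ^ ((h : ℤ) * i) := fun i => by
    rw [PGroup.mul_zpow_sq hyx' hy2]; congr 1; ring
  have hinx : ∀ i : ℤ, (x ^ i) ^ 2 = 1 → x ^ i = 1 ∨ x ^ i = x ^ (h : ℤ) := by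
    intro i hi
    rw [← zpow_natCast, ← zpow_mul, hzpow] at hi
    obtain ⟨j, hj⟩ := hi
    have hij : i = h * j := by push_cast at hj; linarith
    rcases Int.even_or_odd j with ⟨l, hl⟩ | ⟨l, hl⟩
    · left; rw [hzpow]; exact ⟨l, by rw [hij, hl]; push_cast; ring⟩
    · right
      rw [← mul_inv_eq_one, ← zpow_neg, ← zpow_add, hzpow]
      exact ⟨l, by rw [hij, hl]; push_cast; ring⟩
  -- the central involution
  have hzx : (⟨z, hzS⟩ : P) = x ^ (h : ℤ) := by
    have hz2 : (⟨z, hzS⟩ : P) ^ 2 = 1 :=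
      Subtype.ext (by simp [pow_two, Involution.sq_of_orderOf_two hz])
    obtain ⟨i, hi | hi⟩ := helem ⟨z, hzS⟩
    · rcases hinx i (hi ▸ hz2) with h1 | h1
      · exfalso
        have h0 : z = 1 := congrArg Subtype.val (hi.trans h1)
        rw [h0, orderOf_one] at hz; omega
      · exact hi.trans h1
    · exfalso
      have h1 : Commute x (y * x ^ i) := hi ▸ Subtype.ext (hzc _ x.2).eq
      have h2 : Commute x y := by
        have := h1.mul_right ((Commute.refl x).zpow_right i).inv_right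
        rwa [mul_inv_cancel_right] at this
      have h3 : y * x * y⁻¹ = x := by rw [h2.symm.eq, mul_inv_cancel_right]
      rw [hyx', ← mul_inv_eq_one, ← zpow_neg_one, ← zpow_add, hzpow] at h3
      have := Int.le_of_dvd (by omega) h3
      omega
  -- the subgroup generated by the involutions
  have hyy : y * y = 1 := by rw [← pow_two, hy2, zpow_zero]
  have hyy2 : y * x ^ (2 : ℤ) * (y * x ^ (2 : ℤ)) = 1 := by
    rw [← pow_two, hsq, hzpow]
    exact ⟨1, by push_cast; ring⟩
  set Q' := closure ({y, y * x ^ (2 : ℤ)} : Set P) with hQ'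
  have hyQ : y ∈ Q' := subset_closure (Or.inl rfl)
  have hx2Q : x ^ (2 : ℤ) ∈ Q' := by
    have := Q'.mul_mem hyQ (subset_closure (Or.inr rfl) : y * x ^ (2 : ℤ) ∈ Q')
    rwa [← mul_assoc, hyy, one_mul] at this
  have hQx : ∀ i : ℤ, x ^ i ∈ Q' ↔ Even i := by
    intro i
    refine ⟨fun hi => ?_, fun ⟨j, hj⟩ => ?_⟩
    · obtain ⟨k, hk | hk⟩ := Involution.mem_closure_pair_cases hyy hyy2 hi
      · rw [← mul_assoc, hyy, one_mul, ← zpow_mul, ← mul_inv_eq_one, ← zpow_neg, ← zpow_add,
          hzpow] at hk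
        obtain ⟨l, hl⟩ := hk
        exact ⟨h * l + k, by push_cast at hl; linarith⟩
      · exfalso
        rw [← mul_assoc y y, hyy, one_mul, ← zpow_mul] at hk
        exact hyn ⟨i - 2 * k, show x ^ (i - 2 * k) = y by rw [zpow_sub, hk, mul_inv_cancel_right]⟩
    · rw [hj, ← two_mul, zpow_mul]; exact Q'.zpow_mem hx2Q j
  have hidx : Q'.index = 2 := by
    rw [index_eq_two_iff]
    refine ⟨x, fun b => ?_⟩
    rcases helem b with ⟨i, rfl | rfl⟩
    · rw [← zpow_add_one, hQx, hQx, xor_iff_not_iff, Int.even_add_one]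
      tauto
    · rw [mul_assoc, ← zpow_add_one, Q'.mul_mem_cancel_left hyQ, Q'.mul_mem_cancel_left hyQ, hQx,
        hQx, xor_iff_not_iff, Int.even_add_one]
      tauto
  have hQinv : ∀ g : P, g ^ 2 = 1 → g ∈ Q' := by
    intro g hg
    obtain ⟨i, rfl | rfl⟩ := helem g
    · rcases hinx i hg with h1 | h1 <;> rw [h1]
      · exact Q'.one_mem
      · rw [hQx]; obtain ⟨j, hj⟩ := hheven; exact ⟨j, by omega⟩
    · rw [hsq, hzpow] at hg
      obtain ⟨l, hl⟩ := hg
      refine Q'.mul_mem hyQ ((hQx i).2 ⟨l, ?_⟩)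
      have : (h : ℤ) * (i - 2 * l) = 0 := by push_cast at hl; linarith
      have := (mul_eq_zero.1 this).resolve_left (by omega)
      omega
  -- `Q` is the group generated by the involutions of `C(z)`
  set C := centralizer ({z} : Set G)
  set D := closure {w : C | w * w = 1}
  have hPC : P ≤ C := fun s hs => mem_centralizer_singleton_iff.2 (hzc s hs).eq
  haveI hDn : D.Normal := ⟨fun d hd g => by
    have : D.map (MulAut.conj g).toMonoidHom ≤ D := by
      rw [map_le_iff_le_comap, closure_le]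
      intro w hw
      refine subset_closure ?_
      show g * w * g⁻¹ * (g * w * g⁻¹) = 1
      rw [show g * w * g⁻¹ * (g * w * g⁻¹) = g * (w * w) * g⁻¹ by group, show w * w = 1 from hw]
      group
    exact this ⟨d, hd, rfl⟩⟩
  have hDP : D.map C.subtype ≤ P := by
    have h1 : IsPGroup 2 (P.subgroupOf C ⊔ D : Subgroup C) :=
      (S.2.comap_subtype (K := C)).to_sup_of_normal_right (closure_involutions hS hz)
    have h2 := S.is_maximal' (h1.map C.subtype) (fun s hs =>
      ⟨⟨s, hPC hs⟩, mem_sup_left (mem_subgroupOf.2 hs), rfl⟩)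
    exact (map_mono le_sup_right).trans h2.le
  have hQD : Q'.map P.subtype = D.map C.subtype := by
    refine le_antisymm ?_ ?_
    · rw [map_le_iff_le_comap, closure_le]
      have key : ∀ g : P, g * g = 1 → (g : G) ∈ D.map C.subtype := fun g hg =>
        ⟨⟨g, hPC g.2⟩, subset_closure (Subtype.ext (congrArg Subtype.val hg :)), rfl⟩
      rintro g (rfl | rfl)
      · exact key _ hyy
      · exact key _ hyy2
    · rintro _ ⟨w, hw, rfl⟩
      have hwP : ∀ v ∈ D, (v : G) ∈ P := fun v hv => hDP ⟨v, hv, rfl⟩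
      induction hw using closure_induction with
      | mem v hv =>
        exact ⟨⟨v, hwP v (subset_closure hv)⟩, hQinv _ (by
          rw [pow_two]; exact Subtype.ext (congrArg Subtype.val hv :)), rfl⟩
      | one => exact one_mem _
      | mul v v' _ _ i1 i2 => exact mul_mem i1 i2
      | inv v _ i1 => exact inv_mem i1
  -- transfer
  set u : P := y * x
  have hu2 : u ^ 2 = (⟨z, hzS⟩ : P) := by
    have := hsq 1
    rw [zpow_one, mul_one] at this
    rw [this, hzx]
  have huQ : (u : G) ∉ Q'.map P.subtype := by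
    rintro ⟨q, hq, hqu⟩
    rw [show q = u from Subtype.ext hqu] at hq
    have h1 := (Q'.mul_mem_cancel_left hyQ).1 hq
    rw [← zpow_one x, hQx] at h1
    exact absurd h1 (by decide)
  obtain ⟨M, hM, hMi, -⟩ := Transfer.exists_index_two_of_conj S (Q'.map P.subtype)
    (map_subtype_le _) (by
      show (Q'.map P.subtype).relIndex P = 2
      rw [relIndex, subgroupOf, comap_map_eq_self_of_injective P.subtype_injective, hidx]) (u : G)
    u.2 huQ (fun g hg => by
      obtain ⟨q, hq, hqu⟩ := hg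
      have hq' : (q : G) = g⁻¹ * u * g := hqu
      have hgz : g⁻¹ * z * g = z := by
        have h1 : ((q ^ 2 : P) : G) = g⁻¹ * z * g := by
          rw [SubgroupClass.coe_pow, hq', pow_two,
            show g⁻¹ * (u : G) * g * (g⁻¹ * u * g) = g⁻¹ * ((u : G) * u) * g by group]
          congr 2
          rw [← pow_two, ← SubgroupClass.coe_pow, hu2]
        have hz1 : g⁻¹ * z * g ≠ 1 := fun e => by
          have : z = 1 := by
            calc z = g * (g⁻¹ * z * g) * g⁻¹ := by group
              _ = 1 := by rw [e]; group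
          rw [this, orderOf_one] at hz; omega
        have hz2 : (g⁻¹ * z * g) * (g⁻¹ * z * g) = 1 := by
          rw [show g⁻¹ * z * g * (g⁻¹ * z * g) = g⁻¹ * (z * z) * g by group,
            Involution.sq_of_orderOf_two hz]
          group
        have hq4 : (q ^ 2 : P) ^ 2 = 1 := Subtype.ext (by
          rw [SubgroupClass.coe_pow, h1, pow_two, hz2, OneMemClass.coe_one])
        have key : ∀ i : ℤ, q ^ 2 = x ^ i → g⁻¹ * z * g = z := by
          intro i hi
          rcases hinx i (hi ▸ hq4) with h2 | h2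
          · exact absurd (h1.symm.trans (congrArg Subtype.val (hi.trans h2))) hz1
          · exact h1.symm.trans (congrArg Subtype.val (hi.trans (h2.trans hzx.symm)))
        rcases helem q with ⟨i, hi | hi⟩
        · exact key (i * 2) (by rw [hi, ← zpow_natCast, ← zpow_mul]; norm_num)
        · exact key (h * i) (by rw [hi, hsq])
      have hgC : g ∈ C := mem_centralizer_singleton_iff.2 (by
        calc g * z = g * (g⁻¹ * z * g) := by rw [hgz]
          _ = z * g := by group)
      refine huQ ?_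
      rw [hQD]
      obtain ⟨d, hd, hdq⟩ : (q : G) ∈ D.map C.subtype := hQD ▸ ⟨q, hq, rfl⟩
      refine ⟨⟨g, hgC⟩ * d * ⟨g, hgC⟩⁻¹, hDn.conj_mem d hd _, ?_⟩
      show g * (d : G) * g⁻¹ = u
      rw [show (d : G) = g⁻¹ * u * g from hdq.trans hq']
      group)
    (fun g i hi hmem => by
      obtain ⟨j, rfl⟩ : ∃ j, i = j + 1 := ⟨i - 1, by omega⟩
      refine ⟨⟨_, hmem⟩, hQinv _ (Subtype.ext ?_), rfl⟩
      have h1 : ((u : G) ^ 2 ^ (j + 1)) ^ 2 = 1 := by
        rw [show 2 ^ (j + 1) = 2 * 2 ^ j from pow_succ' 2 j, pow_mul, ← SubgroupClass.coe_pow u 2,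
          hu2]
        show (z ^ 2 ^ j) ^ 2 = 1
        rw [← pow_mul, mul_comm, pow_mul, pow_two, Involution.sq_of_orderOf_two hz, one_pow]
      show (g⁻¹ * (u : G) ^ 2 ^ (j + 1) * g) ^ 2 = 1
      rw [pow_two, show g⁻¹ * (u : G) ^ 2 ^ (j + 1) * g * (g⁻¹ * (u : G) ^ 2 ^ (j + 1) * g) =
        g⁻¹ * ((u : G) ^ 2 ^ (j + 1) * (u : G) ^ 2 ^ (j + 1)) * g by group, ← pow_two, h1]
      group)
  exact simple_index_two hna hM hMi

end Cfsg.Agent.ScNoncyclic
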