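import Cfsg.Agent.Lib.PSL2.Torus
import Mathlib

/-!
# Involution centralisers in `PSL(2, q)` and `2^n ± 1` as a prime power
-/

set_option autoImplicit false
set_option linter.style.haveILetI false

namespace Cfsg.Agent.ScNoncyclic

open Subgroup PSL2
open scoped MatrixGroups

variable {F : Type*} [Field F] [Fintype F]

theorem tr_sq_ne_four_of_sq (h2 : (2 : F) ≠ 0) {g : SL(2, F)} (hg : g * g = -1) :
    tr g ^ 2 ≠ 4 := by
  rw [sq_eq_neg_one_iff.1 hg]
  intro h
  exact mul_ne_zero h2 h2 (by linear_combination -h)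

/-- The centraliser of an involution of `PSL(2, q)`, `q` odd. -/
theorem involution_data (h2 : (2 : F) ≠ 0) {g : SL(2, F)} (hg : g * g = -1) :
    centralizer ({PSL2.mk g} : Set PSL(2, F)) = (normalizer (cent g : Set SL(2, F))).map PSL2.mk ∧
      Nat.card (centralizer ({PSL2.mk g} : Set PSL(2, F))) = Nat.card (cent g) ∧
      4 ∣ Nat.card (cent g) := by
  have h4 := tr_sq_ne_four_of_sq h2 hg
  have hinv : g⁻¹ = -g := inv_eq_of_mul_eq_one_right (by rw [mul_neg, hg, neg_neg])
  have hC : centralizer ({PSL2.mk g} : Set PSL(2, F)) =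
      (normalizer (cent g : Set SL(2, F))).map PSL2.mk := by
    ext x
    obtain ⟨k, rfl⟩ := mk_surjective x
    rw [mk_mem_map_iff ((center_le_cent g).trans (cent_le_normalizer g)), mem_normalizer_cent h4,
      mem_centralizer_singleton_iff, hinv, ← mk_eq_mk, map_mul, map_mul, map_inv,
      mul_inv_eq_iff_eq_mul]
  have hd : Nat.gcd 2 (Fintype.card F - 1) = 2 := by
    obtain ⟨k, hk⟩ := odd_card_iff.2 h2
    exact Nat.gcd_eq_left ⟨k, by omega⟩
  refine ⟨hC, ?_, ?_⟩
  · obtain ⟨e⟩ := dihedral_normalizer h4 (n := Nat.card ((cent g).map PSL2.mk)) rfl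
    rw [hC, Nat.card_congr e.toEquiv, DihedralGroup.nat_card, ← card_map_cent g, hd]
  · have h : orderOf g = 2 ^ (1 + 1) := by
      refine orderOf_eq_prime_pow ?_ ?_
      · rw [pow_one, pow_two, hg]
        exact fun h => (two_ne_zero_iff_one_ne_neg_one (F := F)).1 h2 h.symm
      · rw [show (2 : ℕ) ^ (1 + 1) = 2 * 2 from rfl, pow_mul, pow_two g, hg, pow_two]
        simp
    rw [show (4 : ℕ) = 2 ^ (1 + 1) from rfl, ← h]
    exact (cent g).orderOf_dvd_natCard (mem_cent.2 (Commute.refl g))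

theorem exists_lift (h2 : (2 : F) ≠ 0) {x : PSL(2, F)} (hx : orderOf x = 2) :
    ∃ g : SL(2, F), PSL2.mk g = x ∧ g * g = -1 := by
  obtain ⟨g, rfl⟩ := mk_surjective x
  refine ⟨g, rfl, ?_⟩
  have h1 : PSL2.mk (g * g) = 1 := by
    have := pow_orderOf_eq_one (PSL2.mk g)
    rwa [hx, pow_two, ← map_mul] at this
  refine (mk_eq_one.1 h1).resolve_left fun hg => ?_
  have h3 : PSL2.mk g = 1 := by
    by_cases hg1 : g = 1
    · rw [hg1, map_one]
    · rw [eq_neg_one_of_orderOf_eq_two h2 (orderOf_eq_prime (by rwa [pow_two]) hg1), mk_neg_one]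
  rw [h3, orderOf_one] at hx
  omega

/-- A prime power next to a power of two is a prime or nine. -/
theorem prime_or_nine {p a n : ℕ} (hp : p.Prime) (hp2 : p ≠ 2) (ha : a ≠ 0) (hn : 2 ≤ n)
    (h : p ^ a = 2 ^ n + 1 ∨ p ^ a + 1 = 2 ^ n) : a = 1 ∨ p ^ a = 9 := by
  obtain ⟨k, hk⟩ := hp.odd_of_ne_two hp2
  rcases Nat.even_or_odd a with ⟨b, rfl⟩ | hodd
  · right
    obtain ⟨m, hm⟩ := (hp.odd_of_ne_two hp2).pow (n := b)
    rw [pow_add, hm] at h ⊢
    rcases h with h | h
    · have h1 : (2 * m) * (2 * m + 2) = 2 ^ n := by nlinarith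
      obtain ⟨i, -, hi⟩ := (Nat.dvd_prime_pow Nat.prime_two).1 (Dvd.intro _ h1 : 2 * m ∣ 2 ^ n)
      obtain ⟨j, -, hj⟩ := (Nat.dvd_prime_pow Nat.prime_two).1
        (Dvd.intro_left _ h1 : 2 * m + 2 ∣ 2 ^ n)
      have hm1 : m = 1 := by
        by_contra hm1
        have hm0 : m ≠ 0 := by rintro rfl; simp at h
        have hi2 : 2 ≤ i := by
          by_contra hlt
          have := Nat.pow_le_pow_right two_pos (show i ≤ 1 by omega)
          omega
        have hij : i ≤ j := by
          by_contra hlt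
          have := Nat.pow_le_pow_right two_pos (show j ≤ i by omega)
          omega
        have h4i : 4 ∣ 2 * m := hi ▸ pow_dvd_pow 2 hi2
        have h4j : 4 ∣ 2 * m + 2 := hj ▸ pow_dvd_pow 2 (hi2.trans hij)
        omega
      norm_num [hm1]
    · exfalso
      have h4 : 4 ∣ 2 ^ n := pow_dvd_pow 2 hn
      have h5 : (2 * m + 1) * (2 * m + 1) = 4 * (m * m + m) + 1 := by ring
      omega
  · left
    set x : ℤ := if p ^ a = 2 ^ n + 1 then (p : ℤ) else -(p : ℤ) with hx
    set σ : ℤ := ∑ i ∈ Finset.range a, x ^ i with hσ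
    have hgeo : σ * (x - 1) = x ^ a - 1 := geom_sum_mul x a
    have hxa : (x ^ a - 1).natAbs = 2 ^ n := by
      rw [hx]
      split_ifs with h'
      · rw [show ((p : ℤ) ^ a) = ((p ^ a : ℕ) : ℤ) from (Nat.cast_pow p a).symm, h']
        rw [Nat.cast_add, Nat.cast_one, add_sub_cancel_right, Int.natAbs_natCast]
      · have h2' := h.resolve_left h'
        rw [hodd.neg_pow, show -((p : ℤ) ^ a) - 1 = -(((p ^ a + 1 : ℕ) : ℤ)) by push_cast; ring,
          Int.natAbs_neg, Int.natAbs_natCast, h2']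
    have hσodd : ((σ : ℤ) : ZMod 2) = 1 := by
      rw [hσ, Int.cast_sum]
      have hxo : ((x : ℤ) : ZMod 2) = 1 := by
        rw [hx]
        have hp' : ((p : ℕ) : ZMod 2) = 1 := ZMod.natCast_eq_one_iff_odd.2 ⟨k, hk⟩
        split_ifs <;> push_cast <;> rw [hp']
        decide
      simp only [Int.cast_pow, hxo, one_pow, Finset.sum_const, Finset.card_range, nsmul_eq_mul,
        mul_one]
      exact ZMod.natCast_eq_one_iff_odd.2 hodd
    have hdvd : σ.natAbs ∣ 2 ^ n := by
      rw [← hxa, ← hgeo, Int.natAbs_mul]; exact dvd_mul_right _ _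
    obtain ⟨i, -, hi⟩ := (Nat.dvd_prime_pow Nat.prime_two).1 hdvd
    have hi0 : i = 0 := by
      by_contra hi0
      have : (2 : ℤ) ∣ σ := Int.natCast_dvd.2 (hi ▸ dvd_pow_self 2 hi0)
      rw [(ZMod.intCast_zmod_eq_zero_iff_dvd σ 2).2 this] at hσodd
      exact absurd hσodd (by decide)
    rw [hi0, pow_zero] at hi
    have h1 : (x - 1).natAbs = 2 ^ n := by
      rw [← hxa, ← hgeo, Int.natAbs_mul, hi, one_mul]
    have h2 : p ^ a = p := by
      rw [hx] at h1
      split_ifs at h1 with h'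
      · have := hp.two_le; omega
      · have h2' := h.resolve_left h'; omega
    exact (Nat.pow_right_injective hp.two_le) (h2.trans (pow_one p).symm)

end Cfsg.Agent.ScNoncyclic
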