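import Cfsg.Agent.Lib.ScNoncyclic.Forward
import Cfsg.Agent.Lib.ScNoncyclic.PSLFacts
import Cfsg.Agent.Lib.BSW.Small
import Cfsg.Agent.Lib.BSW.KleinA5
import Cfsg.Agent.Lib.PSL2.SylowAction
import Cfsg.Agent.Lib.PSL2.SmallIso
import Cfsg.Agent.S3278

/-!
# Recognition of `PSL(2, q)` for `q = 4, 9` or a Fermat or Mersenne prime
-/

set_option autoImplicit false
set_option linter.style.haveILetI false

namespace Cfsg.Agent.ScNoncyclic

open Subgroup
open scoped MatrixGroups

variable {G : Type*} [Group G] [Finite G]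

/-- The admissible values of `q`. -/
def Admissible (q : ℕ) : Prop :=
  q = 4 ∨ q = 9 ∨ (q.Prime ∧ ∃ k : ℕ, q = 2 ^ k + 1 ∨ q = 2 ^ k - 1)

theorem psl_of_four [IsSimpleGroup G] {S : Sylow 2 G} {z a : G} (hS : SC G)
    (hzS : z ∈ (S : Subgroup G)) (haS : a ∈ (S : Subgroup G)) (hz : orderOf z = 2)
    (ha : orderOf a = 2) (hne : a ≠ z) (hzc : ∀ s ∈ (S : Subgroup G), Commute s z)
    (h4 : Nat.card (S : Subgroup G) = 4) :
    ∃ (F : Type) (_ : Field F) (_ : Fintype F),
      Admissible (Fintype.card F) ∧ Nonempty (G ≃* PSL(2, F)) := by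
  classical
  haveI : Fact (Nat.Prime 2) := ⟨Nat.prime_two⟩
  have hz1 : orderOf (⟨z, hzS⟩ : (S : Subgroup G)) = 2 := by rw [Subgroup.orderOf_mk, hz]
  have ha1 : orderOf (⟨a, haS⟩ : (S : Subgroup G)) = 2 := by rw [Subgroup.orderOf_mk, ha]
  have hnm : (⟨a, haS⟩ : (S : Subgroup G)) ∉ zpowers (⟨z, hzS⟩ : (S : Subgroup G)) := fun h =>
    hne (congrArg Subtype.val (by
      by_contra hne'
      exact not_mem_zpowers_of_involutions hz1 ha1 hne' h :
        (⟨a, haS⟩ : (S : Subgroup G)) = ⟨z, hzS⟩) :)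
  obtain ⟨φ⟩ := PGroup.dihedralEquivOfRel (G := (S : Subgroup G)) (N := 2) hz1 hnm
    (by have h := pow_orderOf_eq_one (⟨a, haS⟩ : (S : Subgroup G)); rwa [ha1] at h)
    (Subtype.ext (show a * z * a⁻¹ = z⁻¹ by
      rw [(hzc a haS).eq, mul_inv_cancel_right, Involution.inv_of_orderOf_two hz])) (by rw [h4])
  have hC := cent_eq_sylow hS S hz ha haS hne hzc (S0514.result S 2 le_rfl ⟨φ⟩ z hz)
  have hK : IsKleinFour (S : Subgroup G) :=
    { card_four := h4
      exponent_two := by
        refine Nat.dvd_antisymm (Monoid.exponent_dvd_of_forall_pow_eq_one fun g => φ.injective ?_)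
          (by have h := Monoid.order_dvd_exponent (⟨a, haS⟩ : (S : Subgroup G)); rwa [ha1] at h)
        rw [map_pow, map_one]
        have key : ∀ d : DihedralGroup 2, d ^ 2 = 1 := by decide
        exact key _ }
  obtain ⟨e⟩ := S3278.result z hz (S : Subgroup G) hC.ge hK (by rw [hC, relIndex_self]; norm_num)
    (by rw [hC, subgroupOf_self]; infer_instance)
  haveI := Fintype.ofFinite (GaloisField 2 2)
  have hq : Fintype.card (GaloisField 2 2) = 4 := by
    rw [← Nat.card_eq_fintype_card, GaloisField.card 2 2 (by norm_num)]; rfl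
  obtain ⟨e'⟩ := PSL2.psl_four_five_iso (F := GaloisField 2 2) (Or.inl hq)
  exact ⟨GaloisField 2 2, inferInstance, inferInstance, Or.inl hq, ⟨e.trans e'.symm⟩⟩

theorem psl_of_dihedral [IsSimpleGroup G] (hna : ¬ IsMulCommutative G) {S : Sylow 2 G} {z a : G}
    (hS : SC G) (hzS : z ∈ (S : Subgroup G)) (haS : a ∈ (S : Subgroup G)) (hz : orderOf z = 2)
    (ha : orderOf a = 2) (hne : a ≠ z) (hzc : ∀ s ∈ (S : Subgroup G), Commute s z) {k : ℕ}
    (hk : 2 ≤ k) (φ : (S : Subgroup G) ≃* DihedralGroup (2 ^ k)) :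
    ∃ (F : Type) (_ : Field F) (_ : Fintype F),
      Admissible (Fintype.card F) ∧ Nonempty (G ≃* PSL(2, F)) := by
  classical
  haveI : Fact (Nat.Prime 2) := ⟨Nat.prime_two⟩
  haveI := Fintype.ofFinite G
  set h : ℕ := 2 ^ (k - 1) with hh
  have hN : 2 ^ k = 2 * h := by rw [hh, ← pow_succ']; congr 1; omega
  have hk4 : 4 ≤ 2 ^ k := Nat.pow_le_pow_right two_pos hk
  haveI : NeZero (2 ^ k) := ⟨by omega⟩
  have hSd : Nat.card (S : Subgroup G) = 2 * 2 ^ k := by
    rw [Nat.card_congr φ.toEquiv, DihedralGroup.nat_card]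
  have hC : centralizer ({z} : Set G) = (S : Subgroup G) :=
    cent_eq_sylow hS S hz ha haS hne hzc
      (S0514.result S (2 ^ k) (by omega) ⟨φ⟩ z hz)
  have hres : Cfsg.pResidual 2 G = ⊤ := by
    haveI := Transfer.pResidual_normal (G := G) 2
    refine ((inferInstance : (Cfsg.pResidual 2 G).Normal).eq_bot_or_eq_top).resolve_left fun hb => hna ?_
    have h1 := Transfer.isPGroup_quotient_pResidual (G := G) 2
    have h2 : IsPGroup 2 G := by
      intro g
      obtain ⟨j, hj⟩ := h1 (g : G ⧸ Cfsg.pResidual 2 G)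
      refine ⟨j, ?_⟩
      rw [← QuotientGroup.mk_pow, QuotientGroup.eq_one_iff] at hj
      simpa [hb] using hj
    haveI := h2.isNilpotent
    exact ⟨⟨IsSimpleGroup.comm_iff_isSolvable.2 inferInstance⟩⟩
  have hconj : ∀ x y : G, orderOf x = 2 → orderOf y = 2 → IsConj x y := fun x y hx hy =>
    isConj_iff.2 (S0107.result S k hk ⟨φ⟩ hres x y hx hy)
  -- the data of the configuration
  set r : (S : Subgroup G) := φ.symm (DihedralGroup.r 1) with hr
  set s : (S : Subgroup G) := φ.symm (DihedralGroup.sr 0) with hs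
  set K := (zpowers r).map (S : Subgroup G).subtype with hKdef
  have hs2 : orderOf (s : G) = 2 := by
    rw [Subgroup.orderOf_coe, hs, MulEquiv.orderOf_eq, DihedralGroup.orderOf_sr]
  have hmul2 : ∀ i : ZMod (2 ^ k), i + i = 0 → i = 0 ∨ i = (h : ZMod (2 ^ k)) := by
    intro i hi
    have hv := ZMod.val_lt i
    rw [← ZMod.natCast_rightInverse i, ← Nat.cast_add, ZMod.natCast_eq_zero_iff] at hi
    obtain ⟨c, hc⟩ := hi
    have hc2 : c < 2 := by
      by_contra hc2
      have : 2 ^ k * 2 ≤ 2 ^ k * c := Nat.mul_le_mul_left _ (by omega)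
      omega
    interval_cases c
    · left; exact (ZMod.val_eq_zero i).1 (by omega)
    · right; rw [← ZMod.natCast_rightInverse i]; congr 1; omega
  have hh0 : (h : ZMod (2 ^ k)) + h = 0 := by
    rw [← Nat.cast_add, ← two_mul, ← hN, ZMod.natCast_self]
  have hzr : φ ⟨z, hzS⟩ = DihedralGroup.r (h : ZMod (2 ^ k)) := by
    have hcen : ∀ d, d * φ ⟨z, hzS⟩ = φ ⟨z, hzS⟩ * d := fun d => by
      obtain ⟨w, rfl⟩ := φ.surjective d
      rw [← map_mul, ← map_mul]
      exact congrArg φ (Subtype.ext (hzc _ w.2).eq)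
    rcases hd : φ ⟨z, hzS⟩ with i | i
    · have h1 := hcen (DihedralGroup.sr 0)
      rw [hd, DihedralGroup.sr_mul_r, DihedralGroup.r_mul_sr, DihedralGroup.sr.injEq] at h1
      rcases hmul2 i (by linear_combination h1) with h2 | h2
      · exfalso
        rw [h2] at hd
        have h3 : (⟨z, hzS⟩ : (S : Subgroup G)) = 1 := φ.injective (hd.trans (map_one φ).symm)
        have h4 : z = 1 := congrArg Subtype.val h3
        rw [h4, orderOf_one] at hz; omega
      · rw [h2]
    · exfalso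
      have h1 := hcen (DihedralGroup.r 1)
      rw [hd, DihedralGroup.r_mul_sr, DihedralGroup.sr_mul_r, DihedralGroup.sr.injEq] at h1
      have h2 : ((2 : ℕ) : ZMod (2 ^ k)) = 0 := by push_cast; linear_combination -h1
      rw [ZMod.natCast_eq_zero_iff] at h2
      have := Nat.le_of_dvd two_pos h2
      omega
  have hzpw : ∀ i : ZMod (2 ^ k), φ.symm (DihedralGroup.r i) = r ^ i.val := by
    intro i
    rw [hr, ← map_pow, DihedralGroup.r_one_pow, ZMod.natCast_rightInverse]
  have hKr : ∀ x : (S : Subgroup G), (x : G) ∈ K → ∃ i, φ x = DihedralGroup.r i := by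
    intro x hx
    obtain ⟨y, hy, hyx⟩ := hx
    obtain ⟨j, rfl⟩ := mem_zpowers_iff.1 hy
    refine ⟨(j : ZMod (2 ^ k)), ?_⟩
    rw [← show r ^ j = x from Subtype.ext hyx, map_zpow, hr, MulEquiv.apply_symm_apply,
      DihedralGroup.r_one_zpow]
  have hKmem : ∀ i, ((φ.symm (DihedralGroup.r i) : (S : Subgroup G)) : G) ∈ K := fun i =>
    ⟨_, hzpw i ▸ pow_mem (mem_zpowers r) _, rfl⟩
  have hzK : z ∈ K := by
    have := hKmem h
    rwa [← hzr, MulEquiv.symm_apply_apply] at this
  have hKS : K ≤ (S : Subgroup G) := map_subtype_le _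
  have hinvol : ∀ x ∈ K, orderOf x = 2 → x = z := by
    intro x hx hx2
    obtain ⟨i, hi⟩ := hKr ⟨x, hKS hx⟩ hx
    have h1 : DihedralGroup.r i * DihedralGroup.r i = 1 := by
      rw [← hi, ← map_mul]
      exact (congrArg φ (Subtype.ext (Involution.sq_of_orderOf_two hx2))).trans (map_one φ)
    rw [DihedralGroup.r_mul_r, DihedralGroup.one_def, DihedralGroup.r.injEq] at h1
    rcases hmul2 i h1 with h2 | h2
    · exfalso
      rw [h2] at hi
      have h3 : (⟨x, hKS hx⟩ : (S : Subgroup G)) = 1 := φ.injective (hi.trans (map_one φ).symm)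
      have h4 : x = 1 := congrArg Subtype.val h3
      rw [h4, orderOf_one] at hx2; omega
    · have h3 : (⟨x, hKS hx⟩ : (S : Subgroup G)) = ⟨z, hzS⟩ := φ.injective (by rw [hi, hzr, h2])
      exact congrArg Subtype.val h3
  have hinv : ∀ x ∈ K, (s : G) * x * (s : G)⁻¹ = x⁻¹ := by
    intro x hx
    obtain ⟨i, hi⟩ := hKr ⟨x, hKS hx⟩ hx
    have h1 : s * ⟨x, hKS hx⟩ * s⁻¹ = (⟨x, hKS hx⟩ : (S : Subgroup G))⁻¹ := φ.injective (by
      rw [map_mul, map_mul, map_inv, map_inv, hs, MulEquiv.apply_symm_apply, hi,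
        DihedralGroup.inv_sr, DihedralGroup.inv_r, DihedralGroup.sr_mul_r, DihedralGroup.sr_mul_sr]
      simp)
    exact congrArg Subtype.val h1
  have hsK : (s : G) ∉ K := fun hm => by
    obtain ⟨i, hi⟩ := hKr s hm
    rw [hs, MulEquiv.apply_symm_apply] at hi
    exact absurd hi (by simp)
  let c : BSW.Config G :=
    { t := z
      K := K
      s := (s : G)
      ht := hz
      comm := fun x hx y hy => by
        haveI : IsMulCommutative K := Subgroup.map_isMulCommutative _ _
        exact congrArg Subtype.val (IsMulCommutative.is_comm.comm (⟨x, hx⟩ : K) ⟨y, hy⟩)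
      hKH := hKS.trans hC.ge
      htK := hzK
      hs := hs2
      hsH := hC.ge s.2
      hsK := hsK
      hH := by
        rw [hC]
        refine le_antisymm (sup_le hKS (zpowers_le.2 s.2)) fun x hx => ?_
        rcases hd : φ ⟨x, hx⟩ with i | i
        · refine mem_sup_left ?_
          have := hKmem i
          rwa [← hd, MulEquiv.symm_apply_apply] at this
        · have h1 : (⟨x, hx⟩ : (S : Subgroup G)) = s * φ.symm (DihedralGroup.r i) := φ.injective (by
            rw [hd, map_mul, hs, MulEquiv.apply_symm_apply, MulEquiv.apply_symm_apply,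
              DihedralGroup.sr_mul_r, zero_add])
          rw [show x = (s : G) * _ from congrArg Subtype.val h1]
          exact mul_mem (mem_sup_right (mem_zpowers _)) (mem_sup_left (hKmem i))
      hCK := by
        refine le_antisymm (fun x hx => ?_) (zpowers_le.2 ⟨hzK, ?_⟩)
        · obtain ⟨hxK, hxs⟩ := mem_inf.1 hx
          by_cases hx1 : x = 1
          · rw [hx1]; exact one_mem _
          have h1 : x⁻¹ = x := by
            rw [← hinv x hxK, mem_centralizer_singleton_iff.1 hxs |>.symm, mul_inv_cancel_right]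
          rw [hinvol x hxK (orderOf_eq_prime
            (by rw [pow_two]; nth_rewrite 1 [← h1]; exact inv_mul_cancel x) hx1)]
          exact mem_zpowers z
        · exact mem_centralizer_singleton_iff.2 (hzc _ s.2).symm.eq
      hinv := hinv
      hTI := fun g hg => by
        refine (Subgroup.eq_bot_iff_forall _).2 fun x hx => by_contra fun hx1 => hg ?_
        obtain ⟨hxK, y, hy, hyx⟩ := mem_inf.1 hx
        have hyx' : g * y * g⁻¹ = x := hyx
        obtain ⟨j, hj⟩ := IsPGroup.iff_orderOf.1 S.2 ⟨x, hKS hxK⟩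
        rw [Subgroup.orderOf_mk] at hj
        rcases j with _ | j
        · exact absurd (orderOf_eq_one_iff.1 (hj.trans (pow_zero 2))) hx1
        have hxo : orderOf (x ^ 2 ^ j) = 2 := by
          rw [orderOf_pow_of_dvd (pow_ne_zero _ two_ne_zero) (hj ▸ pow_dvd_pow 2 (Nat.le_succ j)),
            hj, pow_succ, Nat.mul_div_cancel_left _ (by positivity)]
        have hgy : g * y ^ 2 ^ j * g⁻¹ = x ^ 2 ^ j := by rw [← conj_pow, hyx']
        have hyo : orderOf (y ^ 2 ^ j) = 2 :=
          (MulEquiv.orderOf_eq (MulAut.conj g) _).symm.trans (by rw [MulAut.conj_apply, hgy, hxo])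
        rw [hinvol _ (pow_mem hxK _) hxo, hinvol _ (pow_mem hy _) hyo] at hgy
        refine mem_centralizer_singleton_iff.2 ?_
        exact mul_inv_eq_iff_eq_mul.1 hgy
      hconj := hconj }
  obtain ⟨Q, D, hG, hQc, -, hDQ, hQD, hNQ, -⟩ := c.conclusion
  set q := Nat.card Q
  have hqodd : q % 2 = 1 := by omega
  have h8 : 8 ∣ Nat.card G := by
    refine (Dvd.dvd.trans ?_ (hSd ▸ card_subgroup_dvd_card (S : Subgroup G)))
    obtain ⟨j, hj⟩ := pow_dvd_pow 2 hk
    exact ⟨j, by rw [hj]; ring⟩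
  have hq4 : 4 < q := by
    by_contra hle
    have hGpos : 0 < Nat.card G := Nat.card_pos
    rcases (show q = 1 ∨ q = 3 by omega) with e | e <;> rw [e] at hG <;> omega
  have hQcomm : ∀ x ∈ Q, ∀ y ∈ Q, x * y = y * x := fun x hx y hy => by
    by_cases hy1 : y = 1
    · rw [hy1, mul_one, one_mul]
    · exact mem_centralizer_singleton_iff.1 ((hQc y hy hy1).symm ▸ hx)
  have hDN : D ≤ normalizer (Q : Set G) := hNQ ▸ le_sup_right
  obtain ⟨p, hp, hpq⟩ := Nat.exists_prime_and_dvd (show q ≠ 1 by omega)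
  haveI := Fact.mk hp
  have hp2 : p ≠ 2 := fun e => by subst e; omega
  let A : Subgroup G :=
    { carrier := {x | x ∈ Q ∧ x ^ p = 1}
      one_mem' := ⟨Q.one_mem, one_pow p⟩
      mul_mem' := fun {x y} hx hy => ⟨Q.mul_mem hx.1 hy.1, by
        rw [(show Commute x y from hQcomm x hx.1 y hy.1).mul_pow, hx.2, hy.2, one_mul]⟩
      inv_mem' := fun {x} hx => ⟨Q.inv_mem hx.1, by rw [inv_pow, hx.2, inv_one]⟩ }
  have hAQ : A = Q := by
    refine eq_of_le_of_card_ge (fun x hx => hx.1) ?_
    obtain ⟨⟨x, hxQ⟩, hx⟩ := exists_prime_orderOf_dvd_card' p hpq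
    rw [Subgroup.orderOf_mk] at hx
    have hx1 : x ≠ 1 := fun e => by rw [e, orderOf_one] at hx; exact hp.ne_one hx.symm
    have hxA : x ∈ A := ⟨hxQ, hx ▸ pow_orderOf_eq_one x⟩
    have hcm : ∀ d : D, (d : G) * x * (d : G)⁻¹ ∈ A := fun d =>
      ⟨(mem_normalizer_iff.1 (hDN d.2) x).1 hxQ, by rw [conj_pow, hxA.2]; group⟩
    have hle : Nat.card D ≤ Nat.card {y : A // y ≠ 1} := by
      refine Nat.card_le_card_of_injective (fun d : D => (⟨⟨_, hcm d⟩, fun e => hx1
        (conj_eq_one_iff.1 (congrArg Subtype.val e :))⟩ : {y : A // y ≠ 1})) fun d d' hdd => ?_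
      have h0 : (d : G) * x * (d : G)⁻¹ = (d' : G) * x * (d' : G)⁻¹ :=
        congrArg (fun y : {y : A // y ≠ 1} => ((y : A) : G)) hdd
      have h1 : (d' : G)⁻¹ * d ∈ Q ⊓ D := by
        refine mem_inf.2 ⟨?_, mul_mem (inv_mem d'.2) d.2⟩
        rw [← hQc x hxQ hx1]
        refine mem_centralizer_singleton_iff.2 ?_
        calc (d' : G)⁻¹ * d * x = (d' : G)⁻¹ * ((d : G) * x * (d : G)⁻¹) * d := by group
          _ = x * ((d' : G)⁻¹ * d) := by rw [h0]; group
      rw [hQD, mem_bot] at h1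
      exact Subtype.ext (inv_mul_eq_one.1 h1).symm
    have hA1 : Nat.card {y : A // y ≠ 1} + 1 = Nat.card A := by
      rw [← Finite.card_option]
      exact Nat.card_congr (Equiv.optionSubtypeNe (1 : A))
    obtain ⟨c', hc'⟩ := card_dvd_of_le (fun x hx => hx.1 : A ≤ Q)
    change q = Nat.card A * c' at hc'
    by_contra hlt
    have hc1 : c' ≠ 1 := fun e => hlt ((hc'.trans (by rw [e, mul_one] : Nat.card A * c' = Nat.card A)).le)
    have hc3 : 3 ≤ c' := by
      by_contra hlt3
      have : c' = 0 ∨ c' = 2 := by omega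
      rcases this with e | e <;> rw [e] at hc' <;> omega
    have : Nat.card A * 3 ≤ q := hc' ▸ Nat.mul_le_mul_left _ hc3
    omega
  have hQp : IsPGroup p Q := fun y => ⟨1, Subtype.ext (by
    rw [pow_one, SubgroupClass.coe_pow, (hAQ.symm ▸ y.2 : (y : G) ∈ A).2, OneMemClass.coe_one])⟩
  obtain ⟨f, hf⟩ := hQp.exists_card_eq
  change q = p ^ f at hf
  have hf0 : f ≠ 0 := fun e => by rw [e, pow_zero] at hf; omega
  have hidx : Q.index * 2 = (q + 1) * (q - 1) := by
    refine Nat.eq_of_mul_eq_mul_left (show 0 < q by omega) ?_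
    rw [← mul_assoc q (q + 1), ← hG, ← Q.index_mul_card]
    ring
  have hpidx : ¬ p ∣ Q.index := fun hd => by
    have h1 : p ∣ (q + 1) * (q - 1) := hidx ▸ Dvd.dvd.mul_right hd 2
    rcases hp.dvd_mul.1 h1 with h2 | h2
    · exact hp.not_dvd_one ((Nat.dvd_add_right hpq).1 h2)
    · have := Nat.dvd_sub hpq h2
      rw [Nat.sub_sub_self (by omega)] at this
      exact hp.not_dvd_one this
  set P : Sylow p G := hQp.toSylow hpidx
  have hPQ : (P : Subgroup G) = Q := rfl
  have hnum : Nat.card (Sylow p G) = q + 1 := by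
    rw [Sylow.card_eq_index_normalizer P]
    show (normalizer (Q : Set G)).index = q + 1
    set N := normalizer (Q : Set G)
    have hQN : Q ≤ N := le_normalizer
    haveI : (Q.subgroupOf N).Normal := normal_in_normalizer
    have hcomp : IsComplement' (Q.subgroupOf N) (D.subgroupOf N) := by
      refine isComplement'_of_disjoint_and_mul_eq_univ ?_ ?_
      · rw [disjoint_iff, subgroupOf, subgroupOf, ← comap_inf, hQD]; exact bot_subgroupOf _
      · rw [← normal_mul, ← subgroupOf_sup hQN hDN, ← hNQ, subgroupOf_self, coe_top]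
    have hNc := hcomp.card_mul_card
    rw [Nat.card_congr (subgroupOfEquivOfLe hQN).toEquiv,
      Nat.card_congr (subgroupOfEquivOfLe hDN).toEquiv] at hNc
    have hGN := N.index_mul_card
    rw [← hNc] at hGN
    refine Nat.eq_of_mul_eq_mul_right (show 0 < q * (q - 1) by
      exact Nat.mul_pos (by omega) (by omega)) ?_
    rw [← mul_assoc, ← mul_assoc, mul_comm (q + 1) q, ← hG, ← hGN, show q - 1 = 2 * Nat.card D by omega]
    ring
  haveI := Fintype.ofFinite (GaloisField p f)
  have hF : Fintype.card (GaloisField p f) = q := by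
    rw [← Nat.card_eq_fintype_card, GaloisField.card p f hf0, hf]
  obtain ⟨e⟩ := PSL2.Recog.psl_of_sylow P (by show 4 ≤ q; omega) hnum
    (by
      rw [if_neg hp2, hG]
      show q * (q + 1) * (q - 1) = q * (q ^ 2 - 1)
      rw [show q ^ 2 - 1 = (q + 1) * (q - 1) by rw [← Nat.sq_sub_sq, one_pow], mul_assoc])
    (fun u hu hu1 g hgu v hv => by
      rw [hPQ] at hu hv
      exact hQcomm g ((hQc u hu hu1) ▸ mem_centralizer_singleton_iff.2 hgu) v hv)
    (F := GaloisField p f) hF
  have h2 : (2 : GaloisField p f) ≠ 0 := PSL2.odd_card_iff.1 (by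
    rw [hF]; exact Nat.odd_iff.2 hqodd)
  have hez : orderOf (e z) = 2 := by rw [MulEquiv.orderOf_eq, hz]
  obtain ⟨g, hg, hg2⟩ := exists_lift h2 hez
  obtain ⟨-, hcard, -⟩ := involution_data h2 hg2
  have hce : Nat.card (centralizer ({e z} : Set PSL(2, GaloisField p f))) = 2 ^ (k + 1) := by
    rw [pow_succ', ← hSd, ← hC]
    refine (Nat.card_congr (e.toEquiv.subtypeEquiv fun x => ?_)).symm
    show x ∈ centralizer ({z} : Set G) ↔ e x ∈ centralizer ({e z} : Set _)
    rw [mem_centralizer_singleton_iff, mem_centralizer_singleton_iff, ← map_mul, ← map_mul,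
      e.injective.eq_iff]
  rw [← hg, hcard] at hce
  have hsize := PSL2.card_cent_of_tr (tr_sq_ne_four_of_sq h2 hg2)
  rw [hce, hF] at hsize
  refine ⟨GaloisField p f, inferInstance, inferInstance, ?_, ⟨e⟩⟩
  rw [hF]
  rcases prime_or_nine hp hp2 hf0 (show 2 ≤ k + 1 by omega)
    (by rcases hsize with e' | e' <;> [left; right] <;> omega) with e' | e'
  · rw [e', pow_one] at hf
    refine Or.inr (Or.inr ⟨hf ▸ hp, k + 1, ?_⟩)
    rcases hsize with e'' | e'' <;> [left; right] <;> omega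
  · exact Or.inr (Or.inl (hf.trans e'))

/-- The forward direction. -/
theorem exists_psl [IsSimpleGroup G] (hna : ¬ IsMulCommutative G) (hS : SC G) :
    ∃ (F : Type) (_ : Field F) (_ : Fintype F),
      Admissible (Fintype.card F) ∧ Nonempty (G ≃* PSL(2, F)) := by
  classical
  haveI : Fact (Nat.Prime 2) := ⟨Nat.prime_two⟩
  obtain ⟨S, z, a, hzS, haS, hz, ha, hne, hzc⟩ := exists_setup hna hS
  have hC4 := card_cent_in_sylow hS hzS haS hz ha hne hzc
  rcases S3224.result (S := (S : Subgroup G)) S.2 ⟨a, haS⟩ (by rw [Subgroup.orderOf_mk, ha]) hC4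
    with ⟨n, ⟨φ⟩⟩ | h | h
  · have h1 := Nat.card_congr φ.toEquiv
    rw [DihedralGroup.nat_card] at h1
    obtain ⟨m, hm⟩ := S.2.exists_card_eq
    have hm2 : 4 ≤ Nat.card (S : Subgroup G) := hC4 ▸ card_le_card_group _
    obtain ⟨k, -, hk⟩ := (Nat.dvd_prime_pow Nat.prime_two).1
      (Dvd.intro_left 2 (h1.symm.trans hm) : n ∣ 2 ^ m)
    subst hk
    rcases Nat.lt_or_ge k 2 with hk2 | hk2
    · refine psl_of_four hS hzS haS hz ha hne hzc ?_
      interval_cases k <;> simp at h1 <;> omega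
    · exact psl_of_dihedral hna hS hzS haS hz ha hne hzc hk2 φ
  · exact absurd h (not_quasiDihedral hna hS S hzS hz hzc)
  · exact psl_of_four hS hzS haS hz ha hne hzc h

end Cfsg.Agent.ScNoncyclic
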